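import Groth.Agent.DimTheory.Points
import Mathlib.AlgebraicGeometry.Fiber

/-!
# Heights of points through fibres: `height x = height (f x) + height of x in its fibre`
-/

set_option autoImplicit false

universe u

open CategoryTheory AlgebraicGeometry Order TopologicalSpace

namespace Groth.Agent.DimTheory

variable {k : Type u} [Field k] {X Y : Scheme.{u}}

/-- transcendence degree of a residue field extension along a morphism -/
noncomputable def mapTrdeg (g : X ⟶ Y) (x : X) : Cardinal.{u} :=
  @Algebra.trdeg (Y.residueField (g x)) (X.residueField x) _ _ (g.residueFieldMap x).hom.toAlgebra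

theorem resTrdeg_comp (q : Y ⟶ Spec (CommRingCat.of k)) (g : X ⟶ Y) (x : X) :
    resTrdeg (g ≫ q) x = resTrdeg q (g x) + mapTrdeg g x := by
  let _ : Algebra k (Y.residueField (g x)) := (resHom q (g x)).toAlgebra
  let _ : Algebra k (X.residueField x) := (resHom (g ≫ q) x).toAlgebra
  let _ : Algebra (Y.residueField (g x)) (X.residueField x) := (g.residueFieldMap x).hom.toAlgebra
  have : IsScalarTower k (Y.residueField (g x)) (X.residueField x) :=
    .of_algebraMap_eq' (resHom_map q g x)
  exact (trdeg_add_eq k (Y.residueField (g x)) (A := X.residueField x)).symm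

theorem mapTrdeg_eq_zero (g : X ⟶ Y) [IsPreimmersion g] (x : X) : mapTrdeg g x = 0 := by
  let _ : Algebra (Y.residueField (g x)) (X.residueField x) := (g.residueFieldMap x).hom.toAlgebra
  show Algebra.trdeg (Y.residueField (g x)) (X.residueField x) = 0
  have hs : Function.Surjective (g.residueFieldMap x).hom := fun a => by
    obtain ⟨b, rfl⟩ := X.residue_surjective x a
    obtain ⟨c, rfl⟩ := g.stalkMap_surjective x b
    exact ⟨Y.residue (g x) c, ConcreteCategory.congr_hom (Scheme.residue_residueFieldMap g x) c⟩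
  have : Algebra.IsAlgebraic (Y.residueField (g x)) (X.residueField x) := ⟨fun a => by
    obtain ⟨b, rfl⟩ := hs a
    exact isAlgebraic_algebraMap b⟩
  exact trdeg_eq_zero

theorem resTrdeg_id (K : Type u) [Field K] (p : Spec (CommRingCat.of K)) :
    resTrdeg (𝟙 (Spec (CommRingCat.of K))) p = 0 := by
  obtain ⟨n, hn, hn'⟩ := exists_height_eq (𝟙 (Spec (CommRingCat.of K))) p
  have : Subsingleton (Spec (CommRingCat.of K)) :=
    inferInstanceAs (Subsingleton (PrimeSpectrum K))
  have h0 : Order.height p = 0 := Order.height_eq_zero.2 fun b hb => (Subsingleton.elim b p).ge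
  rw [h0] at hn'
  rw [hn]
  simp [show n = 0 by exact_mod_cast hn'.symm]

theorem resTrdeg_fiber (f : X ⟶ Y) (q : Y ⟶ Spec (CommRingCat.of k)) (y : Y) (z : f.fiber y) :
    resTrdeg (f ≫ q) (f.fiberι y z) = resTrdeg q y +
      resTrdeg (k := Y.residueField y) (f.fiberToSpecResidueField y) z := by
  let ft := f.fiberToSpecResidueField y
  let p := ft z
  have e1 : resTrdeg (f.fiberι y ≫ f ≫ q) z = resTrdeg (f ≫ q) (f.fiberι y z) := by
    have : IsPreimmersion (f.fiberι y) := inferInstance
    rw [resTrdeg_comp, mapTrdeg_eq_zero, add_zero]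
  have e2 : resTrdeg (k := Y.residueField y) ft z = mapTrdeg ft z := by
    have := resTrdeg_comp (k := Y.residueField y) (𝟙 (Spec (Y.residueField y))) ft z
    rw [show resTrdeg (k := Y.residueField y) (𝟙 (Spec (Y.residueField y))) (ft z) = 0 from
      resTrdeg_id _ _, zero_add, Category.comp_id] at this
    exact this
  have e3 : resTrdeg (Y.fromSpecResidueField y ≫ q) p = resTrdeg q y := by
    rw [resTrdeg_comp, mapTrdeg_eq_zero, add_zero, Scheme.fromSpecResidueField_apply]
  rw [← e1, e2, ← Category.assoc, f.fiber_fac, Category.assoc, resTrdeg_comp, e3]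

theorem height_fiberι (f : X ⟶ Y) (q : Y ⟶ Spec (CommRingCat.of k)) [LocallyOfFiniteType q]
    [LocallyOfFiniteType f] (y : Y) (z : f.fiber y) :
    Order.height (f.fiberι y z) = Order.height y + Order.height z := by
  have : LocallyOfFiniteType (f.fiberToSpecResidueField y) :=
    MorphismProperty.pullback_snd _ _ ‹_›
  obtain ⟨a, ha, ha'⟩ := exists_height_eq (f ≫ q) (f.fiberι y z)
  obtain ⟨b, hb, hb'⟩ := exists_height_eq q y
  obtain ⟨c, hc, hc'⟩ := exists_height_eq (k := Y.residueField y) (f.fiberToSpecResidueField y) z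
  have h := resTrdeg_fiber f q y z
  rw [ha, hb, hc, ← Nat.cast_add] at h
  rw [ha', hb', hc', ← Nat.cast_add, Nat.cast_injective (R := Cardinal.{u}) h]

theorem fiber_dim_eq (f : X ⟶ Y) (y : Y) :
    topologicalKrullDim (f.base ⁻¹' {y}) = topologicalKrullDim (f.fiber y) :=
  ((f.fiberHomeo y).isHomeomorph.topologicalKrullDim_eq _).symm

theorem exists_height_ge_of_dim {Z : Scheme.{u}} {n : ℕ}
    (h : (n : WithBot ℕ∞) ≤ topologicalKrullDim Z) : ∃ z : Z, (n : ℕ∞) ≤ Order.height z := by
  rw [topologicalKrullDim_eq_iSup_height] at h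
  rcases n with _ | n
  · rcases isEmpty_or_nonempty Z with hZ | ⟨⟨z⟩⟩
    · rw [iSup_of_empty] at h; exact absurd h (by simp)
    · exact ⟨z, zero_le⟩
  · have hlt : (n : WithBot ℕ∞) < ⨆ z : Z, (Order.height z : WithBot ℕ∞) :=
      lt_of_lt_of_le (by exact_mod_cast Nat.lt_succ_self n) h
    obtain ⟨z, hz⟩ := lt_iSup_iff.1 hlt
    refine ⟨z, ?_⟩
    have hz' : (n : ℕ∞) < Order.height z := by exact_mod_cast hz
    exact_mod_cast Order.add_one_le_of_lt hz'

end Groth.Agent.DimTheory
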