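import Groth.Agent.DimTheory.Scheme

/-!
# Points of schemes of finite type over a field: morphisms, local dimension
-/

set_option autoImplicit false

universe u

open CategoryTheory AlgebraicGeometry Order TopologicalSpace

namespace Groth.Agent.DimTheory

variable {k : Type u} [Field k] {X Y : Scheme.{u}}

theorem resHom_map (f : X ⟶ Spec (CommRingCat.of k)) (g : Y ⟶ X) (y : Y) :
    resHom (g ≫ f) y = (g.residueFieldMap y).hom.comp (resHom f (g y)) := by
  refine RingHom.ext fun c => ?_
  simp only [resHom, RingHom.comp_apply, Scheme.Hom.comp_appTop, CommRingCat.hom_comp]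
  generalize f.appTop.hom ((Scheme.ΓSpecIso (CommRingCat.of k)).inv.hom c) = a
  have h1 := (ConcreteCategory.congr_hom (AlgebraicGeometry.Scheme.residue_residueFieldMap g y)
    (X.presheaf.germ ⊤ (g y) trivial a))
  simp only [CommRingCat.comp_apply] at h1
  rw [h1, g.germ_stalkMap_apply ⊤ y trivial a]
  rfl

theorem resTrdeg_le_of_map (f : X ⟶ Spec (CommRingCat.of k)) (g : Y ⟶ X) (y : Y) :
    resTrdeg f (g y) ≤ resTrdeg (g ≫ f) y := by
  let _ : Algebra k (X.residueField (g y)) := (resHom f (g y)).toAlgebra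
  let _ : Algebra k (Y.residueField y) := (resHom (g ≫ f) y).toAlgebra
  let _ : Algebra (X.residueField (g y)) (Y.residueField y) := (g.residueFieldMap y).hom.toAlgebra
  have : IsScalarTower k (X.residueField (g y)) (Y.residueField y) :=
    .of_algebraMap_eq' (resHom_map f g y)
  show Algebra.trdeg k (X.residueField (g y)) ≤ Algebra.trdeg k (Y.residueField y)
  rw [← trdeg_add_eq k (X.residueField (g y)) (A := Y.residueField y)]
  exact le_self_add

theorem height_map_le (f : X ⟶ Spec (CommRingCat.of k)) [LocallyOfFiniteType f] (g : Y ⟶ X)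
    [LocallyOfFiniteType (g ≫ f)] (y : Y) : Order.height (g y) ≤ Order.height y := by
  obtain ⟨n, hn, hn'⟩ := exists_height_eq f (g y)
  obtain ⟨m, hm, hm'⟩ := exists_height_eq (g ≫ f) y
  have h := resTrdeg_le_of_map f g y
  rw [hn, hm] at h
  rw [hn', hm']
  exact Nat.cast_le.2 (Nat.cast_le.1 h)

theorem topologicalKrullDim_le_of_genericPoint_mem (f : X ⟶ Spec (CommRingCat.of k))
    [LocallyOfFiniteType f] [IrreducibleSpace X] (g : Y ⟶ X) [LocallyOfFiniteType (g ≫ f)]
    (h : genericPoint X ∈ Set.range g) : topologicalKrullDim X ≤ topologicalKrullDim Y := by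
  obtain ⟨y, hy⟩ := h
  rw [topologicalKrullDim_eq_height_genericPoint, topologicalKrullDim_eq_iSup_height Y, ← hy]
  exact le_iSup_of_le y (WithBot.coe_le_coe.2 (height_map_le f g y))

theorem exists_opens_dim_eq (f : X ⟶ Spec (CommRingCat.of k)) [LocallyOfFiniteType f] (x : X) :
    (∀ U : X.Opens, x ∈ U →
      ((Order.height x + Order.coheight x : ℕ∞) : WithBot ℕ∞) ≤ topologicalKrullDim (U : Set X)) ∧
    ∃ U : X.Opens, x ∈ U ∧
      topologicalKrullDim (U : Set X) ≤ ((Order.height x + Order.coheight x : ℕ∞) : WithBot ℕ∞) := by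
  constructor
  · intro U hxU
    obtain ⟨y, hxy, -, he⟩ := exists_height_eq_add_coheight f x
    have hyU : y ∈ U := (show y ⤳ x from hxy).mem_open U.2 hxU
    show _ ≤ topologicalKrullDim (U : Scheme.{u})
    rw [topologicalKrullDim_eq_iSup_height, ← he]
    exact le_iSup_of_le ⟨y, hyU⟩ (WithBot.coe_le_coe.2 (height_opens f U ⟨y, hyU⟩).ge)
  · obtain ⟨V, hV, hxV, -⟩ := X.isBasis_affineOpens.exists_subset_of_mem_open (Set.mem_univ x)
      isOpen_univ
    obtain ⟨V, hV, rfl⟩ := hV
    replace hV : IsAffineOpen V := hV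
    have : IsLocallyNoetherian X := LocallyOfFiniteType.isLocallyNoetherian f
    have : IsNoetherianRing Γ(X, V) := IsLocallyNoetherian.component_noetherian ⟨V, hV⟩
    let S : Set (PrimeSpectrum Γ(X, V)) :=
      {q | q.asIdeal ∈ minimalPrimes Γ(X, V) ∧ ¬ hV.fromSpec q ⤳ x}
    have hS : S.Finite :=
      ((minimalPrimes.finite_of_isNoetherianRing Γ(X, V)).preimage
        (Function.Injective.injOn fun a b h => PrimeSpectrum.ext h)).subset fun q hq => hq.1
    let W : X.Opens := ⟨⋂ q ∈ S, (closure {hV.fromSpec q})ᶜ,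
      hS.isOpen_biInter fun q _ => isClosed_closure.isOpen_compl⟩
    refine ⟨V ⊓ W, ⟨hxV, Set.mem_iInter₂.2 fun q hq h => hq.2 (specializes_iff_mem_closure.2 h)⟩, ?_⟩
    show topologicalKrullDim ((V ⊓ W : X.Opens) : Scheme.{u}) ≤ _
    rw [topologicalKrullDim_eq_iSup_height]
    refine iSup_le fun z => WithBot.coe_le_coe.2 ?_
    obtain ⟨z, hzV, hzW⟩ := z
    rw [height_opens f (V ⊓ W) ⟨z, hzV, hzW⟩]
    show Order.height z ≤ _
    obtain ⟨q, hq, hqz⟩ := Ideal.exists_minimalPrimes_le (J := (hV.primeIdealOf ⟨z, hzV⟩).asIdeal) bot_le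
    have := hq.1.1
    let Q : PrimeSpectrum Γ(X, V) := ⟨q, inferInstance⟩
    have hle : hV.fromSpec Q ⤳ z := by
      have := ((PrimeSpectrum.le_iff_specializes Q _).1 hqz).map hV.fromSpec.continuous
      have e : hV.fromSpec (hV.primeIdealOf ⟨z, hzV⟩) = z := hV.fromSpec_primeIdealOf ⟨z, hzV⟩
      rwa [e] at this
    have hQx : hV.fromSpec Q ⤳ x := by
      by_contra hn
      exact Set.mem_iInter₂.1 hzW Q ⟨hq, hn⟩ (specializes_iff_mem_closure.1 hle)
    exact (Order.height_mono (show z ≤ hV.fromSpec Q from hle)).trans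
      (height_le_height_add_coheight f (show x ≤ hV.fromSpec Q from hQx))

theorem resTrdeg_genericPoint_eq (f : X ⟶ Spec (CommRingCat.of k)) [LocallyOfFiniteType f]
    [IrreducibleSpace X] {n : ℕ} (hn : resTrdeg f (genericPoint X) = n) :
    topologicalKrullDim X = n := by
  obtain ⟨m, hm, hd⟩ := exists_dim_eq_resTrdeg f
  rw [hd, Nat.cast_injective (R := Cardinal.{u}) (hm.symm.trans hn)]

end Groth.Agent.DimTheory
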