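import Mathlib.RingTheory.NoetherNormalization
import Mathlib.RingTheory.KrullDimension.Polynomial
import Mathlib.RingTheory.KrullDimension.Regular
import Mathlib.RingTheory.IntegralClosure.GoingDown
import Mathlib.RingTheory.Ideal.HasGoingUp
import Mathlib.RingTheory.Jacobson.Ring
import Mathlib.RingTheory.KrullDimension.Field
import Mathlib.RingTheory.Polynomial.UniqueFactorization
import Mathlib.RingTheory.AlgebraicIndependent.TranscendenceBasis
import Mathlib.RingTheory.AlgebraicIndependent.Transcendental

/-!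
# Dimension theory of finitely generated algebras over a field
-/

set_option autoImplicit false

namespace Groth.Agent.DimTheory

universe u v

section Integral

variable (R : Type u) (S : Type v) [CommRing R] [CommRing S] [Algebra R S]

theorem strictMono_comap [Algebra.IsIntegral R S] :
    StrictMono (PrimeSpectrum.comap (algebraMap R S)) :=
  fun _ _ h => Ideal.IsIntegral.comap_lt_comap h

theorem ringKrullDim_eq_of_integral [Algebra.IsIntegral R S] [FaithfulSMul R S] :
    ringKrullDim S = ringKrullDim R := by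
  refine le_antisymm (Order.krullDim_le_of_strictMono _ (strictMono_comap R S)) ?_
  refine iSup_le fun l => ?_
  obtain ⟨P, -, hP, hPc⟩ := Ideal.exists_ideal_over_prime_of_isIntegral (R := R) (S := S)
    l.head.asIdeal ⊥ (by
      rw [← RingHom.ker_eq_comap_bot, (RingHom.injective_iff_ker_eq_bot _).1
        (FaithfulSMul.algebraMap_injective R S)]
      exact bot_le)
  have : P.LiesOver l.head.asIdeal := ⟨hPc.symm⟩
  obtain ⟨L, hL, -, -⟩ := Ideal.exists_ltSeries_of_hasGoingUp (S := S) l P
  exact hL ▸ Order.LTSeries.length_le_krullDim L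

theorem height_eq_height_under [IsDomain S] [FaithfulSMul R S] [Algebra.IsIntegral R S]
    [IsIntegrallyClosed R] (P : Ideal S) [P.IsPrime] : P.height = (P.under R).height := by
  refine le_antisymm ?_ ?_
  · rw [PrimeSpectrum.height_eq_orderHeight ⟨P, inferInstance⟩ |>.trans rfl,
      PrimeSpectrum.height_eq_orderHeight ⟨P.under R, inferInstance⟩ |>.trans rfl]
    exact Order.height_le_height_apply_of_strictMono _ (strictMono_comap R S) ⟨P, inferInstance⟩
  · rw [PrimeSpectrum.height_eq_orderHeight ⟨P, inferInstance⟩ |>.trans rfl,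
      PrimeSpectrum.height_eq_orderHeight ⟨P.under R, inferInstance⟩ |>.trans rfl]
    refine iSup₂_le fun l hl => ?_
    obtain ⟨r, hr⟩ : ∃ r : PrimeSpectrum R, r = l.last := ⟨_, rfl⟩
    obtain ⟨Q, hQP, hQ, hQo⟩ : ∃ Q ≤ P, Q.IsPrime ∧ Q.LiesOver l.last.asIdeal :=
      Ideal.exists_ideal_le_liesOver_of_le (p := l.last.asIdeal) (q := P.under R) P hl
    obtain ⟨L, hL, hlast, -⟩ := Ideal.exists_ltSeries_of_hasGoingDown (S := S) l Q
    rw [← hL]
    exact Order.length_le_height (by rw [hlast]; exact hQP)

end Integral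

section Polynomial

variable (k : Type u) [Field k]

theorem height_maximal_mvPolynomial : ∀ (n : ℕ) (m : Ideal (MvPolynomial (Fin n) k)) [m.IsMaximal],
    m.height = (n : ℕ∞) := by
  intro n
  induction n with
  | zero =>
    intro m hm
    have h : ringKrullDim (MvPolynomial (Fin 0) k) = 0 := by
      rw [MvPolynomial.ringKrullDim_of_isNoetherianRing]; simp [ringKrullDim_eq_zero_of_field]
    have := Ideal.height_le_ringKrullDim_of_ne_top hm.ne_top
    rw [h] at this
    simpa using WithBot.coe_le_coe.1 this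
  | succ n ih =>
    intro m hm
    let e := (MvPolynomial.finSuccEquiv k n).toRingEquiv
    let P : Ideal (Polynomial (MvPolynomial (Fin n) k)) := m.comap e.symm
    have hP : P.IsMaximal := Ideal.comap_isMaximal_of_surjective _ e.symm.surjective
    let p := P.comap (Polynomial.C : MvPolynomial (Fin n) k →+* Polynomial (MvPolynomial (Fin n) k))
    have hp : p.IsMaximal := Polynomial.isMaximal_comap_C_of_isJacobsonRing P
    have : P.LiesOver p := ⟨rfl⟩
    rw [← RingEquiv.height_comap e.symm m]
    show P.height = _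
    rw [Polynomial.height_eq_height_add_one p P, ih p]
    push_cast
    rfl

theorem ringKrullDim_mvPolynomial_fin (n : ℕ) : ringKrullDim (MvPolynomial (Fin n) k) = n := by
  rw [MvPolynomial.ringKrullDim_of_isNoetherianRing]; simp [ringKrullDim_eq_zero_of_field]

theorem ringKrullDim_quotient_height_one_mvPolynomial (n : ℕ)
    (p : Ideal (MvPolynomial (Fin (n + 1)) k)) [p.IsPrime] (hp : p.height = 1) :
    ringKrullDim (MvPolynomial (Fin (n + 1)) k ⧸ p) = n := by
  have hne : p ≠ ⊥ := Ideal.ne_bot_of_height_eq_one hp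
  obtain ⟨f, hf, hfp⟩ := Ideal.IsPrime.exists_mem_prime_of_ne_bot (inferInstance : p.IsPrime) hne
  have hspan := Ideal.eq_span_singleton_of_height_eq_one hp hf hfp
  obtain ⟨m, hm, hpm⟩ := Ideal.exists_le_maximal p (Ideal.IsPrime.ne_top')
  have h1 := Ideal.height_le_ringKrullDim_quotient_add_one (p := m) (hpm hf)
  have h2 := ringKrullDim_quotient_succ_le_of_nonZeroDivisor
    (mem_nonZeroDivisors_of_ne_zero hfp.ne_zero)
  rw [height_maximal_mvPolynomial k (n + 1) m, ← hspan] at h1
  rw [ringKrullDim_mvPolynomial_fin, ← hspan] at h2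
  have h3 : ringKrullDim (MvPolynomial (Fin (n + 1)) k ⧸ p) + 1 = ((n + 1 : ℕ) : WithBot ℕ∞) :=
    le_antisymm h2 h1
  revert h3
  generalize ringKrullDim (MvPolynomial (Fin (n + 1)) k ⧸ p) = d
  cases d with
  | bot =>
    intro h3
    rw [WithBot.bot_add] at h3
    exact absurd h3.symm (WithBot.coe_ne_bot (a := ((n + 1 : ℕ) : ℕ∞)))
  | coe d =>
    intro h3
    have h4 : d + 1 = ((n + 1 : ℕ) : ℕ∞) := WithBot.coe_inj.1 h3
    push_cast at h4
    exact congrArg _ ((WithTop.add_right_inj ENat.one_ne_top).1 h4)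

end Polynomial

section FiniteType

variable (k : Type u) [Field k] (A : Type v) [CommRing A] [Algebra k A] [Algebra.FiniteType k A]

/-- Noether normalization, packaged -/
theorem exists_normalization [Nontrivial A] :
    ∃ (n : ℕ) (g : MvPolynomial (Fin n) k →ₐ[k] A),
      Function.Injective g ∧ g.Finite ∧ ringKrullDim A = n := by
  obtain ⟨n, g, hg, hfin⟩ := exists_finite_inj_algHom_of_fg k A
  refine ⟨n, g, hg, hfin, ?_⟩
  algebraize [g.toRingHom]
  have : Module.Finite (MvPolynomial (Fin n) k) A := hfin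
  have : FaithfulSMul (MvPolynomial (Fin n) k) A :=
    (faithfulSMul_iff_algebraMap_injective _ _).2 hg
  rw [ringKrullDim_eq_of_integral (MvPolynomial (Fin n) k) A, ringKrullDim_mvPolynomial_fin]

include k in
theorem exists_ringKrullDim_eq [Nontrivial A] : ∃ n : ℕ, ringKrullDim A = n :=
  let ⟨n, _, _, _, h⟩ := exists_normalization k A
  ⟨n, h⟩

include k in
theorem finiteRingKrullDim [Nontrivial A] : FiniteRingKrullDim A := by
  obtain ⟨n, hn⟩ := exists_ringKrullDim_eq k A
  refine (finiteRingKrullDim_iff_ne_bot_and_top).2 ⟨?_, ?_⟩ <;> rw [hn] <;> simp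
  exact fun h => ENat.natCast_ne_top n (WithBot.coe_inj.1 h)

variable [IsDomain A]
include k

theorem height_maximal (m : Ideal A) [m.IsMaximal] :
    (m.height : WithBot ℕ∞) = ringKrullDim A := by
  obtain ⟨n, g, hg, hfin, hd⟩ := exists_normalization k A
  algebraize [g.toRingHom]
  have : Module.Finite (MvPolynomial (Fin n) k) A := hfin
  have : FaithfulSMul (MvPolynomial (Fin n) k) A :=
    (faithfulSMul_iff_algebraMap_injective _ _).2 hg
  have : (m.under (MvPolynomial (Fin n) k)).IsMaximal := Ideal.IsMaximal.under _ m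
  rw [height_eq_height_under (MvPolynomial (Fin n) k) A m, height_maximal_mvPolynomial, hd]
  rfl

theorem ringKrullDim_quotient_height_one (p : Ideal A) [p.IsPrime] (hp : p.height = 1) :
    ringKrullDim (A ⧸ p) + 1 = ringKrullDim A := by
  obtain ⟨n, g, hg, hfin, hd⟩ := exists_normalization k A
  algebraize [g.toRingHom]
  have : Module.Finite (MvPolynomial (Fin n) k) A := hfin
  have : FaithfulSMul (MvPolynomial (Fin n) k) A :=
    (faithfulSMul_iff_algebraMap_injective _ _).2 hg
  let q := p.under (MvPolynomial (Fin n) k)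
  have hq : q.height = 1 := by rw [← height_eq_height_under _ A p, hp]
  obtain ⟨n, rfl⟩ : ∃ m, n = m + 1 := by
    refine ⟨n - 1, (Nat.succ_pred_eq_of_ne_zero fun h0 => ?_).symm⟩
    subst h0
    have := Ideal.height_le_ringKrullDim_of_ne_top (I := q) Ideal.IsPrime.ne_top'
    rw [hq, ringKrullDim_mvPolynomial_fin] at this
    exact absurd (WithBot.coe_le_coe.1 this) (by simp)
  have : p.LiesOver q := ⟨rfl⟩
  have : FaithfulSMul (MvPolynomial (Fin (n + 1)) k ⧸ q) (A ⧸ p) :=
    (faithfulSMul_iff_algebraMap_injective _ _).2 Ideal.algebraMap_quotient_injective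
  rw [hd, ringKrullDim_eq_of_integral (MvPolynomial (Fin (n + 1)) k ⧸ q) (A ⧸ p),
    ringKrullDim_quotient_height_one_mvPolynomial k n q hq]
  push_cast
  rfl

end FiniteType

section Formula

variable (k : Type u) [Field k] {A : Type v} [CommRing A] [Algebra k A] [Algebra.FiniteType k A]
include k

omit k in
theorem height_map_eq_one {q p : Ideal A} [q.IsPrime] [p.IsPrime] (h : q < p)
    (hmax : ∀ r : Ideal A, r.IsPrime → q < r → ¬ r < p) :
    haveI : (p.map (Ideal.Quotient.mk q)).IsPrime :=
      Ideal.map_isPrime_of_surjective Ideal.Quotient.mk_surjective (by rw [Ideal.mk_ker]; exact h.le)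
    (p.map (Ideal.Quotient.mk q)).height = 1 := by
  have hprime : (p.map (Ideal.Quotient.mk q)).IsPrime :=
    Ideal.map_isPrime_of_surjective Ideal.Quotient.mk_surjective (by rw [Ideal.mk_ker]; exact h.le)
  have hcm : (p.map (Ideal.Quotient.mk q)).comap (Ideal.Quotient.mk q) = p := by
    rw [Ideal.comap_map_of_surjective _ Ideal.Quotient.mk_surjective, ← RingHom.ker_eq_comap_bot,
      Ideal.mk_ker, sup_eq_left]
    exact h.le
  refine le_antisymm ?_ ?_
  · show _ ≤ ((1 : ℕ) : ℕ∞)
    refine Ideal.height_le_iff.2 fun s hs hsp => ?_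
    have hs1 : q ≤ s.comap (Ideal.Quotient.mk q) := by
      intro x hx
      simp [Ideal.Quotient.eq_zero_iff_mem.2 hx]
    have hs2 : s.comap (Ideal.Quotient.mk q) < p := by
      rw [← hcm]
      exact (Ideal.comap_mono hsp.le).lt_of_ne fun e => hsp.ne
        (Ideal.comap_injective_of_surjective _ Ideal.Quotient.mk_surjective e)
    have hs3 : s.comap (Ideal.Quotient.mk q) = q := by
      by_contra hne
      exact hmax _ inferInstance (hs1.lt_of_ne (Ne.symm hne)) hs2
    have : s = ⊥ := by
      rw [← Ideal.map_comap_of_surjective _ Ideal.Quotient.mk_surjective s, hs3,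
        Ideal.map_quotient_self]
    rw [this, Ideal.height_bot]
    exact zero_lt_one
  · refine Order.one_le_iff_pos.2 (pos_iff_ne_zero.2 fun h0 => ?_)
    rw [Ideal.height_eq_zero_iff_eq_bot, Ideal.map_eq_bot_iff_le_ker, Ideal.mk_ker] at h0
    exact h.not_ge h0

theorem ringKrullDim_quotient_covBy {q p : Ideal A} [q.IsPrime] [p.IsPrime] (h : q < p)
    (hmax : ∀ r : Ideal A, r.IsPrime → q < r → ¬ r < p) :
    ringKrullDim (A ⧸ p) + 1 = ringKrullDim (A ⧸ q) := by
  have : (p.map (Ideal.Quotient.mk q)).IsPrime :=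
    Ideal.map_isPrime_of_surjective Ideal.Quotient.mk_surjective (by rw [Ideal.mk_ker]; exact h.le)
  have e := (DoubleQuot.quotQuotEquivQuotOfLE h.le)
  rw [← ringKrullDim_eq_of_ringEquiv e,
    ringKrullDim_quotient_height_one k (A ⧸ q) _ (height_map_eq_one h hmax)]

theorem height_add_ringKrullDim_quotient [IsDomain A] : ∀ (h : ℕ) (p : Ideal A) [p.IsPrime],
    p.height = h → ringKrullDim (A ⧸ p) + h = ringKrullDim A := by
  have := Algebra.FiniteType.isNoetherianRing k A
  intro h
  induction h with
  | zero =>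
    intro p hp hh
    obtain rfl : p = ⊥ := Ideal.height_eq_zero_iff_eq_bot.1 (by simpa using hh)
    simp [ringKrullDim_eq_of_ringEquiv (RingEquiv.quotientBot A)]
  | succ h ih =>
    intro p hp hh
    obtain ⟨q, hq, hqp, hqh⟩ : ∃ q : Ideal A, q.IsPrime ∧ q < p ∧ (h : ℕ∞) ≤ q.height := by
      by_contra hcon
      push Not at hcon
      have := (Ideal.height_le_iff (n := h)).2 fun q hq hqp => hcon q hq hqp
      rw [hh] at this
      exact absurd (Nat.cast_le.1 this) (by omega)
    have hlt : q.height + 1 ≤ p.height := Ideal.height_add_one_le_of_lt_of_isPrime hqp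
    have hqeq : q.height = h := by
      refine le_antisymm ?_ hqh
      rw [hh] at hlt
      push_cast at hlt
      exact (WithTop.add_le_add_iff_right ENat.one_ne_top).1 hlt
    have hmax : ∀ r : Ideal A, r.IsPrime → q < r → ¬ r < p := by
      intro r hr hqr hrp
      have h1 := Ideal.height_add_one_le_of_lt_of_isPrime hqr
      have h2 := Ideal.height_add_one_le_of_lt_of_isPrime hrp
      rw [hh, hqeq] at *
      have := (add_le_add h1 le_rfl).trans h2
      norm_cast at this
      omega
    rw [← ih q hqeq, ← ringKrullDim_quotient_covBy k hqp hmax]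
    push_cast
    rw [add_assoc, add_comm (1 : WithBot ℕ∞) (h : WithBot ℕ∞)]

theorem height_add_ringKrullDim_quotient' [IsDomain A] (p : Ideal A) [p.IsPrime] :
    ringKrullDim (A ⧸ p) + p.height = ringKrullDim A := by
  have := Algebra.FiniteType.isNoetherianRing k A
  obtain ⟨n, hn⟩ := ENat.ne_top_iff_exists.1 (Ideal.height_ne_top_of_isPrime (I := p))
  rw [← hn]
  exact height_add_ringKrullDim_quotient k n p hn.symm

/-- every saturated chain of primes from `⊥` to a maximal ideal has length the dimension -/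
theorem length_eq_ringKrullDim [IsDomain A] (c : LTSeries (PrimeSpectrum A))
    (h0 : c.head.asIdeal = ⊥) (hmax : c.last.asIdeal.IsMaximal)
    (hsat : ∀ i : Fin c.length, c i.castSucc ⋖ c i.succ) :
    (c.length : WithBot ℕ∞) = ringKrullDim A := by
  have key : ∀ i : Fin (c.length + 1),
      ringKrullDim (A ⧸ (c i).asIdeal) + (i : ℕ) = ringKrullDim A := by
    intro i
    induction i using Fin.induction with
    | zero =>
      show ringKrullDim (A ⧸ c.head.asIdeal) + ((0 : ℕ) : WithBot ℕ∞) = _
      rw [h0, ringKrullDim_eq_of_ringEquiv (RingEquiv.quotientBot A)]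
      simp
    | succ i ih =>
      rw [← ih, ← ringKrullDim_quotient_covBy k (hsat i).1 fun r hr h1 h2 =>
        (hsat i).2 (c := ⟨r, hr⟩) h1 h2]
      simp only [Fin.val_succ, Fin.val_castSucc]
      push_cast
      rw [add_assoc, add_comm (1 : WithBot ℕ∞) ((i : ℕ) : WithBot ℕ∞)]
  have h1 := key (Fin.last _)
  let _ := Ideal.Quotient.field c.last.asIdeal
  have h2 : ringKrullDim (A ⧸ (c (Fin.last _)).asIdeal) = 0 :=
    ringKrullDim_eq_zero_of_field (A ⧸ c.last.asIdeal)
  rw [h2, zero_add] at h1
  simpa using h1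

end Formula

section Trdeg

variable (k : Type u) [Field k] (A : Type u) [CommRing A] [Algebra k A] [Algebra.FiniteType k A]
  [IsDomain A]

theorem exists_trdeg_eq : ∃ n : ℕ, ringKrullDim A = n ∧ Algebra.trdeg k A = n := by
  obtain ⟨n, g, hg, hfin, hd⟩ := exists_normalization k A
  algebraize [g.toRingHom]
  have : Module.Finite (MvPolynomial (Fin n) k) A := hfin
  have : FaithfulSMul (MvPolynomial (Fin n) k) A :=
    (faithfulSMul_iff_algebraMap_injective _ _).2 hg
  refine ⟨n, hd, ?_⟩
  rw [← trdeg_add_eq k (MvPolynomial (Fin n) k) (A := A), MvPolynomial.trdeg_of_isDomain,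
    trdeg_eq_zero]
  simp

theorem trdeg_fractionField_eq (K : Type u) [Field K] [Algebra A K] [IsFractionRing A K]
    [Algebra k K] [IsScalarTower k A K] : Algebra.trdeg k K = Algebra.trdeg k A := by
  have : Algebra.IsAlgebraic A K := IsLocalization.isAlgebraic K (nonZeroDivisors A)
  have : FaithfulSMul k A :=
    (faithfulSMul_iff_algebraMap_injective _ _).2 (RingHom.injective _)
  rw [← trdeg_add_eq k A (A := K), trdeg_eq_zero (R := A) (A := K), add_zero]

end Trdeg

end Groth.Agent.DimTheory
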