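import Groth.Agent.DimTheory.Algebra
import Mathlib.AlgebraicGeometry.Morphisms.FiniteType
import Mathlib.AlgebraicGeometry.Properties
import Mathlib.AlgebraicGeometry.ResidueField
import Mathlib.AlgebraicGeometry.Noetherian
import Mathlib.RingTheory.KrullDimension.NonZeroDivisors
import Mathlib.Topology.KrullDimension

/-!
# Dimension theory of schemes locally of finite type over a field
-/

set_option autoImplicit false

universe u

open CategoryTheory AlgebraicGeometry Order TopologicalSpace

namespace Groth.Agent.DimTheory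

variable {k : Type u} [Field k] {X : Scheme.{u}} (f : X ⟶ Spec (CommRingCat.of k))

/-- the structure map `k → Γ(X, U)` -/
noncomputable def secHom (U : X.Opens) : k →+* Γ(X, U) :=
  ((Scheme.ΓSpecIso (CommRingCat.of k)).inv ≫ f.appLE ⊤ U le_top).hom

/-- the structure map `k → κ(x)` -/
noncomputable def resHom (x : X) : k →+* X.residueField x :=
  (X.residue x).hom.comp ((X.presheaf.germ ⊤ x trivial).hom.comp
    (f.appTop.hom.comp (Scheme.ΓSpecIso (CommRingCat.of k)).inv.hom))

/-- transcendence degree of the residue field -/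
noncomputable def resTrdeg (x : X) : Cardinal.{u} :=
  @Algebra.trdeg k (X.residueField x) _ _ (resHom f x).toAlgebra

theorem resHom_eq {U : X.Opens} {x : X} (hx : x ∈ U) :
    resHom f x = ((X.presheaf.germ U x hx ≫ X.residue x).hom).comp (secHom f U) := by
  refine RingHom.ext fun c => ?_
  simp only [resHom, secHom, RingHom.comp_apply, CommRingCat.hom_comp, Scheme.Hom.appLE]
  congr 1
  exact (X.presheaf.germ_res_apply (homOfLE (le_top : U ≤ ⊤)) x hx _).symm

theorem ker_evaluation {U : X.Opens} (hU : IsAffineOpen U) {x : X} (hx : x ∈ U) :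
    RingHom.ker (X.presheaf.germ U x hx ≫ X.residue x).hom = (hU.primeIdealOf ⟨x, hx⟩).asIdeal := by
  rw [hU.primeIdealOf_eq_map_closedPoint]
  ext a
  simp only [RingHom.mem_ker, CommRingCat.hom_comp, RingHom.comp_apply]
  exact (IsLocalRing.residue_eq_zero_iff _)

theorem exists_eq_div {U : X.Opens} (hU : IsAffineOpen U) {x : X} (hx : x ∈ U)
    (z : X.residueField x) : ∃ a b : Γ(X, U), z = (X.presheaf.germ U x hx ≫ X.residue x).hom a /
      (X.presheaf.germ U x hx ≫ X.residue x).hom b := by
  let _ := X.presheaf.algebra_section_stalk ⟨x, hx⟩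
  have := hU.isLocalization_stalk ⟨x, hx⟩
  obtain ⟨w, rfl⟩ := X.residue_surjective x z
  obtain ⟨a, ⟨b, hb⟩, rfl⟩ := IsLocalization.exists_mk'_eq (hU.primeIdealOf ⟨x, hx⟩).asIdeal.primeCompl w
  refine ⟨a, b, ?_⟩
  have hb' : (X.presheaf.germ U x hx ≫ X.residue x).hom b ≠ 0 := fun h => hb (by
    rw [← ker_evaluation hU hx]
    exact h)
  rw [eq_div_iff hb']
  simp only [CommRingCat.hom_comp, RingHom.comp_apply]
  rw [← map_mul]
  exact congrArg _ (IsLocalization.mk'_spec (M := (hU.primeIdealOf ⟨x, hx⟩).asIdeal.primeCompl)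
    (X.presheaf.stalk x) a ⟨b, hb⟩)

variable [LocallyOfFiniteType f]

theorem finiteType_secHom {U : X.Opens} (hU : IsAffineOpen U) : (secHom f U).FiniteType := by
  have h1 : (f.appLE ⊤ U le_top).hom.FiniteType := f.finiteType_appLE (isAffineOpen_top _) hU le_top
  rw [secHom, CommRingCat.hom_comp]
  exact h1.comp (RingHom.FiniteType.of_surjective _
    (Scheme.ΓSpecIso (CommRingCat.of k)).symm.commRingCatIsoToRingEquiv.surjective)

/-- the transcendence degree of the residue field is the dimension of `A/p` -/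
theorem exists_resTrdeg_eq {U : X.Opens} (hU : IsAffineOpen U) {x : X} (hx : x ∈ U) :
    ∃ n : ℕ, resTrdeg f x = n ∧
      ringKrullDim (Γ(X, U) ⧸ (hU.primeIdealOf ⟨x, hx⟩).asIdeal) = n := by
  algebraize [secHom f U]
  have : Algebra.FiniteType k Γ(X, U) := finiteType_secHom f hU
  let _ : Algebra k (X.residueField x) := (resHom f x).toAlgebra
  set p := (hU.primeIdealOf ⟨x, hx⟩).asIdeal with hp
  have hker := ker_evaluation hU hx
  let φ : (Γ(X, U) ⧸ p) →+* X.residueField x :=
    Ideal.Quotient.lift p (X.presheaf.germ U x hx ≫ X.residue x).hom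
      fun a ha => RingHom.mem_ker.1 (by rw [hker]; exact ha)
  have hφ : Function.Injective φ :=
    RingHom.lift_injective_of_ker_le_ideal p _ (le_of_eq hker)
  let _ : Algebra (Γ(X, U) ⧸ p) (X.residueField x) := φ.toAlgebra
  have : FaithfulSMul (Γ(X, U) ⧸ p) (X.residueField x) :=
    (faithfulSMul_iff_algebraMap_injective _ _).2 hφ
  have : IsFractionRing (Γ(X, U) ⧸ p) (X.residueField x) := IsFractionRing.of_field _ _ fun z => by
    obtain ⟨a, b, rfl⟩ := exists_eq_div hU hx z
    exact ⟨Ideal.Quotient.mk p a, Ideal.Quotient.mk p b, rfl⟩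
  have : IsScalarTower k (Γ(X, U) ⧸ p) (X.residueField x) :=
    .of_algebraMap_eq' (resHom_eq f hx)
  obtain ⟨n, hn, hn'⟩ := exists_trdeg_eq k (Γ(X, U) ⧸ p)
  exact ⟨n, (trdeg_fractionField_eq k (Γ(X, U) ⧸ p) (X.residueField x)).trans hn', hn⟩

omit [LocallyOfFiniteType f] in
theorem height_spec (R : CommRingCat.{u}) (p : Spec R) :
    (Order.height p : WithBot ℕ∞) = ringKrullDim (R ⧸ p.asIdeal) := by
  rw [← Order.height_orderIso (specOrderIsoPrimeSpectrum R) p, ← Order.coheight_ofDual,
    ringKrullDim_quotient, specOrderIsoPrimeSpectrum_apply, OrderDual.ofDual_toDual,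
    Order.coheight_eq_krullDim_Ici]
  exact Order.krullDim_eq_of_orderIso
    (OrderIso.setCongr (Set.Ici (show PrimeSpectrum R from p)) _ (by ext q; rfl))

omit [LocallyOfFiniteType f] in
theorem fromSpec_le_iff {U : X.Opens} (hU : IsAffineOpen U) (p q : Spec Γ(X, U)) :
    hU.fromSpec p ≤ hU.fromSpec q ↔ p ≤ q :=
  hU.fromSpec.isOpenEmbedding.isInducing.specializes_iff

/-- `height x` (the dimension of the closure) is the transcendence degree of the residue field. -/
theorem exists_height_eq (x : X) :
    ∃ n : ℕ, resTrdeg f x = n ∧ Order.height x = n := by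
  obtain ⟨U, hU, hxU, -⟩ := X.isBasis_affineOpens.exists_subset_of_mem_open (Set.mem_univ x) isOpen_univ
  obtain ⟨U, hU, rfl⟩ := hU
  obtain ⟨n, hn, hdim⟩ := exists_resTrdeg_eq f hU hxU
  refine ⟨n, hn, le_antisymm ?_ ?_⟩
  · refine iSup₂_le fun l hl => ?_
    obtain ⟨V, hV, hzV, -⟩ := X.isBasis_affineOpens.exists_subset_of_mem_open
      (Set.mem_univ l.head) isOpen_univ
    obtain ⟨V, hV, rfl⟩ := hV
    have hmem : ∀ i, l i ∈ V := fun i =>
      (show l i ⤳ l.head from l.monotone (Fin.zero_le i)).mem_open V.2 hzV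
    have hxV : x ∈ V := (show x ⤳ l.head from (le_trans l.head_le_last hl : l.head ≤ x)).mem_open V.2 hzV
    obtain ⟨m, hm, hdim'⟩ := exists_resTrdeg_eq f hV hxV
    have hnm : m = n := Nat.cast_injective (R := Cardinal.{u}) (hm.symm.trans hn)
    subst hnm
    let L : LTSeries (Spec Γ(X, V)) :=
      { length := l.length
        toFun := fun i => hV.primeIdealOf ⟨l i, hmem i⟩
        step := fun i => by
          have h : l i.castSucc < l i.succ := l.step i
          show @LT.lt (Spec Γ(X, V)) _ (hV.primeIdealOf _) (hV.primeIdealOf _)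
          rw [lt_iff_le_not_ge, ← fromSpec_le_iff hV, ← fromSpec_le_iff hV,
            hV.fromSpec_primeIdealOf, hV.fromSpec_primeIdealOf, ← lt_iff_le_not_ge]
          exact h }
    have hL : L.last ≤ hV.primeIdealOf ⟨x, hxV⟩ := by
      show @LE.le (Spec Γ(X, V)) _ (hV.primeIdealOf _) _
      rw [← fromSpec_le_iff hV, hV.fromSpec_primeIdealOf, hV.fromSpec_primeIdealOf]
      exact hl
    have h1 := WithBot.coe_le_coe.2 (Order.length_le_height hL)
    rw [height_spec] at h1
    exact WithBot.coe_le_coe.1 (h1.trans hdim'.le)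
  · have h1 := Order.height_le_height_apply_of_strictMono (fun p : Spec Γ(X, U) => hU.fromSpec p)
      (fun a b h => by
        rw [lt_iff_le_not_ge] at h ⊢
        exact ⟨(fromSpec_le_iff hU a b).2 h.1, fun h' => h.2 ((fromSpec_le_iff hU b a).1 h')⟩)
      (hU.primeIdealOf ⟨x, hxU⟩)
    simp only [hU.fromSpec_primeIdealOf] at h1
    refine le_trans (WithBot.coe_le_coe.1 ?_) h1
    rw [height_spec, hdim]
    rfl

include f in
theorem height_lt_top (x : X) : Order.height x < ⊤ := by
  obtain ⟨n, -, hn⟩ := exists_height_eq f x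
  rw [hn]
  exact ENat.natCast_lt_top n

include f in
theorem coheight_lt_top (x : X) : Order.coheight x < ⊤ := by
  obtain ⟨U, hU, hxU, -⟩ := X.isBasis_affineOpens.exists_subset_of_mem_open (Set.mem_univ x) isOpen_univ
  obtain ⟨U, hU, rfl⟩ := hU
  let _ : Algebra k Γ(X, U) := (secHom f U).toAlgebra
  have : Algebra.FiniteType k Γ(X, U) := finiteType_secHom f hU
  have := Algebra.FiniteType.isNoetherianRing k Γ(X, U)
  have h := Ideal.height_lt_top_of_isPrime (I := (hU.primeIdealOf ⟨x, hxU⟩).asIdeal)
  rw [idealHeight_eq_coheight] at h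
  rw [show x = hU.fromSpec (hU.primeIdealOf ⟨x, hxU⟩) from (hU.fromSpec_primeIdealOf ⟨x, hxU⟩).symm,
    coheight_eq_of_isOpenImmersion hU.fromSpec]
  exact h

include f in
/-- an immediate generization raises the height by one -/
theorem height_eq_add_one_of_covBy {x y : X} (h : x ⋖ y) :
    Order.height y = Order.height x + 1 := by
  obtain ⟨U, hU, hxU, -⟩ := X.isBasis_affineOpens.exists_subset_of_mem_open (Set.mem_univ x) isOpen_univ
  obtain ⟨U, hU, rfl⟩ := hU
  have hyU : y ∈ U := (show y ⤳ x from h.le).mem_open U.2 hxU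
  obtain ⟨n, hn, hdn⟩ := exists_resTrdeg_eq f hU hxU
  obtain ⟨m, hm, hdm⟩ := exists_resTrdeg_eq f hU hyU
  obtain ⟨n', hn', hx'⟩ := exists_height_eq f x
  obtain ⟨m', hm', hy'⟩ := exists_height_eq f y
  obtain rfl : n = n' := Nat.cast_injective (R := Cardinal.{u}) (hn.symm.trans hn')
  obtain rfl : m = m' := Nat.cast_injective (R := Cardinal.{u}) (hm.symm.trans hm')
  let _ : Algebra k Γ(X, U) := (secHom f U).toAlgebra
  have : Algebra.FiniteType k Γ(X, U) := finiteType_secHom f hU
  set p := (hU.primeIdealOf ⟨x, hxU⟩) with hp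
  set q := (hU.primeIdealOf ⟨y, hyU⟩) with hq
  have hpq : hU.fromSpec p = x ∧ hU.fromSpec q = y := ⟨hU.fromSpec_primeIdealOf _, hU.fromSpec_primeIdealOf _⟩
  have hlt : q.asIdeal < p.asIdeal := by
    refine lt_of_le_not_ge ((PrimeSpectrum.le_iff_specializes q p).2 ?_) fun hge => h.lt.not_ge ?_
    · exact (hU.fromSpec.isOpenEmbedding.isInducing.specializes_iff).1 (by rw [hpq.1, hpq.2]; exact h.le)
    · have := (PrimeSpectrum.le_iff_specializes p q).1 hge
      show x ⤳ y
      rw [← hpq.1, ← hpq.2]
      exact this.map hU.fromSpec.continuous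
  have hstep := ringKrullDim_quotient_covBy k hlt (fun r hr h1 h2 => by
    let R : Spec Γ(X, U) := ⟨r, hr⟩
    have e1 : x ≤ hU.fromSpec R := by
      rw [← hpq.1]; exact ((PrimeSpectrum.le_iff_specializes R p).1 h2.le).map hU.fromSpec.continuous
    have e2 : hU.fromSpec R ≤ y := by
      rw [← hpq.2]; exact ((PrimeSpectrum.le_iff_specializes q R).1 h1.le).map hU.fromSpec.continuous
    have e3 : ¬ hU.fromSpec R ≤ x := fun e => h2.not_ge ((PrimeSpectrum.le_iff_specializes p R).2
      ((fromSpec_le_iff hU R p).1 (by rw [hpq.1]; exact e)))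
    have e4 : ¬ y ≤ hU.fromSpec R := fun e => h1.not_ge ((PrimeSpectrum.le_iff_specializes R q).2
      ((fromSpec_le_iff hU q R).1 (by rw [hpq.2]; exact e)))
    exact h.2 (lt_of_le_not_ge e1 e3) (lt_of_le_not_ge e2 e4))
  rw [hdn, hdm] at hstep
  rw [hy', hx']
  exact (WithBot.coe_inj.1 hstep).symm

include f in
theorem height_le_height_add_coheight : ∀ {x y : X}, x ≤ y →
    Order.height y ≤ Order.height x + Order.coheight x := by
  suffices ∀ (d : ℕ) (x y : X), x ≤ y → Order.height y ≤ Order.height x + d →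
      Order.height y ≤ Order.height x + Order.coheight x by
    intro x y hxy
    obtain ⟨n, -, hn⟩ := exists_height_eq f y
    exact this n x y hxy (by rw [hn]; exact le_add_self)
  intro d
  induction d with
  | zero => intro x y _ h; simpa using h.trans (add_le_add le_rfl bot_le)
  | succ d ih =>
    intro x y hxy h
    by_cases hyx : y ≤ x
    · exact (Order.height_mono hyx).trans (le_add_right le_rfl)
    have hlt : x < y := lt_of_le_not_ge hxy hyx
    -- an immediate successor of `x` below `y`
    obtain ⟨z, hz, hmin⟩ := (wellFounded_lt (α := ℕ∞)).onFun (f := Order.height (α := X)) |>.has_min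
      {z : X | x < z ∧ z ≤ y} ⟨y, hlt, le_rfl⟩
    have hcov : x ⋖ z := ⟨hz.1, fun w h1 h2 => hmin w ⟨h1, h2.le.trans hz.2⟩
      (Order.height_strictMono h2 (height_lt_top f w))⟩
    have hzc := height_eq_add_one_of_covBy f hcov
    have h' : Order.height y ≤ Order.height z + d := by
      rw [hzc, add_assoc, add_comm (1 : ℕ∞)]
      exact h.trans (le_of_eq (by push_cast; rfl))
    refine (ih z y hz.2 h').trans ?_
    rw [hzc, add_assoc, add_comm (1 : ℕ∞)]
    exact add_le_add le_rfl (Order.coheight_add_one_le hz.1)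

include f in
theorem exists_height_eq_add_coheight (x : X) :
    ∃ y, x ≤ y ∧ (∀ z, y ≤ z → z ≤ y) ∧ Order.height y = Order.height x + Order.coheight x := by
  obtain ⟨c, hc⟩ := ENat.ne_top_iff_exists.1 (coheight_lt_top f x).ne
  obtain ⟨l, hhead, hlen⟩ := Order.exists_series_of_le_coheight x hc.le
  obtain ⟨n, -, hn⟩ := exists_height_eq f x
  obtain ⟨l₀, hlast, hlen₀⟩ := Order.exists_series_of_height_eq_coe x hn
  have hxy : x ≤ l.last := hhead ▸ l.head_le_last
  refine ⟨l.last, hxy, fun z hz => ?_,
    le_antisymm (height_le_height_add_coheight f hxy) ?_⟩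
  · by_contra hne
    have := Order.length_le_coheight_head (p := l.snoc z (lt_of_le_not_ge hz hne))
    rw [RelSeries.head_snoc, hhead, RelSeries.snoc_length, hlen, ← hc] at this
    norm_cast at this
    omega
  · rw [hn, ← hc, ← hlen, ← hlen₀]
    have := Order.length_le_height_last (p := l₀.smash l (hlast.trans hhead.symm))
    rw [RelSeries.last_smash, RelSeries.smash_length] at this
    exact_mod_cast this

theorem topologicalKrullDim_eq_iSup_height (X : Scheme.{u}) :
    topologicalKrullDim X = ⨆ x : X, (Order.height x : WithBot ℕ∞) := by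
  rw [← Order.krullDim_eq_iSup_height]
  exact Order.krullDim_eq_of_orderIso irreducibleSetEquivPoints

theorem topologicalKrullDim_eq_height_genericPoint (X : Scheme.{u}) [IrreducibleSpace X] :
    topologicalKrullDim X = (Order.height (genericPoint X) : WithBot ℕ∞) := by
  rw [topologicalKrullDim_eq_iSup_height]
  refine le_antisymm (iSup_le fun x => WithBot.coe_le_coe.2 (Order.height_mono ?_))
    (le_iSup (fun x : X => (Order.height x : WithBot ℕ∞)) _)
  exact genericPoint_specializes x

theorem exists_dim_eq_resTrdeg [IrreducibleSpace X] :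
    ∃ n : ℕ, resTrdeg f (genericPoint X) = n ∧ topologicalKrullDim X = n := by
  obtain ⟨n, hn, hn'⟩ := exists_height_eq f (genericPoint X)
  exact ⟨n, hn, by rw [topologicalKrullDim_eq_height_genericPoint, hn']; rfl⟩

include f in
theorem height_add_coheight [IrreducibleSpace X] (x : X) :
    ((Order.height x + Order.coheight x : ℕ∞) : WithBot ℕ∞) = topologicalKrullDim X := by
  obtain ⟨y, -, hy, he⟩ := exists_height_eq_add_coheight f x
  rw [← he, topologicalKrullDim_eq_height_genericPoint]
  have h1 : y ≤ genericPoint X := genericPoint_specializes y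
  exact congrArg _ (le_antisymm (Order.height_mono h1) (Order.height_mono (hy _ h1)))

include f in
/-- height is intrinsic to open subschemes -/
theorem height_opens (U : X.Opens) (x : (U : Scheme.{u})) :
    Order.height x = Order.height (U.ι x) := by
  obtain ⟨V, hV, hxV, -⟩ := U.toScheme.isBasis_affineOpens.exists_subset_of_mem_open
    (Set.mem_univ x) isOpen_univ
  obtain ⟨V, hV, rfl⟩ := hV
  obtain ⟨n, hn, hdim⟩ := exists_resTrdeg_eq (U.ι ≫ f) hV hxV
  obtain ⟨n', hn', hh⟩ := exists_height_eq (U.ι ≫ f) x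
  obtain rfl : n = n' := Nat.cast_injective (R := Cardinal.{u}) (hn.symm.trans hn')
  refine le_antisymm ?_ ?_
  · exact Order.height_le_height_apply_of_strictMono (fun z : (U : Scheme.{u}) => U.ι z)
      (fun a b h => by
        rw [lt_iff_le_not_ge] at h ⊢
        exact ⟨U.ι.isOpenEmbedding.isInducing.specializes_iff.2 h.1,
          fun h' => h.2 (U.ι.isOpenEmbedding.isInducing.specializes_iff.1 h')⟩) x
  · have hV' : IsAffineOpen (U.ι ''ᵁ V) := hV.image_of_isOpenImmersion U.ι
    have hxV' : U.ι x ∈ U.ι ''ᵁ V := ⟨x, hxV, rfl⟩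
    obtain ⟨m, hm, hdim'⟩ := exists_resTrdeg_eq f hV' hxV'
    obtain ⟨m', hm', hh'⟩ := exists_height_eq f (U.ι x)
    obtain rfl : m = m' := Nat.cast_injective (R := Cardinal.{u}) (hm.symm.trans hm')
    rw [hh, hh']
    refine Nat.cast_le.2 (Nat.le_of_eq (Nat.cast_injective (R := WithBot ℕ∞) ?_))
    rw [← hdim', ← hdim]
    have := IsAffineOpen.comap_primeIdealOf_appLE (f := U.ι) (U.ι ''ᵁ V) hV' V hV
      (U.ι.preimage_image_eq V).ge hxV
    rw [← Scheme.Hom.appIso_hom'] at this
    let e : Γ(X, U.ι ''ᵁ V) ≃+* Γ(U, V) := (U.ι.appIso V).commRingCatIsoToRingEquiv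
    refine ringKrullDim_eq_of_ringEquiv (Ideal.quotientEquiv _ _ e ?_)
    rw [← show _ = (hV'.primeIdealOf ⟨U.ι x, hxV'⟩).asIdeal from congrArg PrimeSpectrum.asIdeal this]
    exact (Ideal.map_comap_of_surjective _ e.surjective _).symm

include f in
theorem topologicalKrullDim_opens [IrreducibleSpace X] (U : X.Opens) (hU : (U : Set X).Nonempty) :
    topologicalKrullDim U = topologicalKrullDim X := by
  refine le_antisymm (topologicalKrullDim_subspace_le X (U : Set X)) ?_
  have hη : genericPoint X ∈ U := ((genericPoint_spec X).mem_open_set_iff U.isOpen).mpr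
    (by simpa using hU)
  rw [topologicalKrullDim_eq_height_genericPoint]
  show _ ≤ topologicalKrullDim (U : Scheme.{u})
  rw [topologicalKrullDim_eq_iSup_height]
  have h := height_opens f U ⟨genericPoint X, hη⟩
  exact le_iSup_of_le ⟨genericPoint X, hη⟩ (WithBot.coe_le_coe.2 h.ge)

omit [Field k] in
theorem topologicalKrullDim_closure {X : Scheme.{u}} (x : X) :
    topologicalKrullDim (closure ({x} : Set X)) = (Order.height x : WithBot ℕ∞) := by
  have : QuasiSober (closure ({x} : Set X)) :=
    (isClosed_closure.isClosedEmbedding_subtypeVal).quasiSober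
  rw [Order.height_eq_krullDim_Iic]
  obtain ⟨e, he⟩ : ∃ e : IrreducibleCloseds (closure ({x} : Set X)) ≃ (closure ({x} : Set X)),
      ∀ a b, e b ⤳ e a ↔ a ≤ b :=
    ⟨(irreducibleSetEquivPoints (α := (closure ({x} : Set X)))).toEquiv,
      fun a b => (irreducibleSetEquivPoints (α := (closure ({x} : Set X)))).map_rel_iff'⟩
  refine Order.krullDim_eq_of_orderIso
    { toFun := fun Z => ⟨(e Z).1, specializes_iff_mem_closure.2 (e Z).2⟩
      invFun := fun z => e.symm ⟨z.1, specializes_iff_mem_closure.1 z.2⟩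
      left_inv := fun Z => e.symm_apply_apply Z
      right_inv := fun z => by
        refine Subtype.ext ?_
        show (e (e.symm ⟨z.1, _⟩)).1 = z.1
        rw [Equiv.apply_symm_apply]
      map_rel_iff' := fun {a b} => (subtype_specializes_iff (e b) (e a)).symm.trans (he a b) }

end Groth.Agent.DimTheory
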