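import Groth.Agent.DimTheory.GenFibre
import Groth.Agent.FlatMorLib.MaxPoints
import Groth.Agent.RatFunLib.Basic
import Groth.Agent.ConstrSets.Basic
import Groth.Agent.FpqcDescent.Specialization

/-!
# Morphisms of schemes of finite type over a field with irreducible fibres over closed points
-/

set_option autoImplicit false

universe u

open CategoryTheory AlgebraicGeometry Order TopologicalSpace

namespace Groth.Agent.DimTheory

variable {k : Type u} [Field k] {X Y : Scheme.{u}}

theorem height_eq_zero_of_isClosed {y : Y} (hy : IsClosed ({y} : Set Y)) : Order.height y = 0 :=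
  Order.height_eq_zero.2 fun w hw => by
    have : w ∈ ({y} : Set Y) :=
      hy.closure_eq ▸ (specializes_iff_mem_closure.1 (show y ⤳ w from hw))
    exact (show w = y from this).ge

theorem isClosed_of_height_eq_zero {y : Y} (h : Order.height y = 0) : IsClosed ({y} : Set Y) := by
  rw [← closure_eq_iff_isClosed]
  refine Set.Subset.antisymm (fun w hw => ?_) subset_closure
  have hyw : y ⤳ w := specializes_iff_mem_closure.2 hw
  have h2 : w ⤳ y := Order.height_eq_zero.1 h (show w ≤ y from hyw)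
  exact (h2.antisymm hyw).eq

theorem isClosed_image_closedPoint (q : Y ⟶ Spec (CommRingCat.of k)) [LocallyOfFiniteType q]
    (f : X ⟶ Y) [LocallyOfFiniteType f] {x : X} (hx : IsClosed ({x} : Set X)) :
    IsClosed ({f x} : Set Y) :=
  isClosed_of_height_eq_zero (le_antisymm
    ((height_map_le q f x).trans (height_eq_zero_of_isClosed hx).le) bot_le)

theorem exists_closedPoint_mem (q : X ⟶ Spec (CommRingCat.of k)) [LocallyOfFiniteType q]
    {U : Set X} (hU : IsOpen U) (h : U.Nonempty) : ∃ x ∈ U, IsClosed ({x} : Set X) := by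
  have := LocallyOfFiniteType.jacobsonSpace q
  obtain ⟨x, hx, hx'⟩ := nonempty_inter_closedPoints h hU.isLocallyClosed
  exact ⟨x, hx, hx'⟩

theorem mem_component_isMax {Z : Set X} (hZ : Z ∈ irreducibleComponents (X : Type u)) :
    ∀ y : X, y ⤳ hZ.1.genericPoint → y = hZ.1.genericPoint :=
  fun _ h => RatFunLib.genericPoint_component_max hZ h

theorem component_eq_closure {Z : Set X} (hZ : Z ∈ irreducibleComponents (X : Type u)) :
    closure {hZ.1.genericPoint} = Z :=
  hZ.1.closure_genericPoint (isClosed_of_mem_irreducibleComponents Z hZ)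

theorem exists_opens_unique_max [NoetherianSpace X] {ξ : X} (hξ : ∀ y : X, y ⤳ ξ → y = ξ) :
    ∃ U : X.Opens, ξ ∈ U ∧ ∀ x ∈ U, ∀ m : X, (∀ y : X, y ⤳ m → y = m) → m ⤳ x → m = ξ := by
  let S : Set (Set X) := {Z | Z ∈ irreducibleComponents (X : Type u) ∧ ξ ∉ Z}
  have hS : S.Finite := NoetherianSpace.finite_irreducibleComponents.subset fun Z hZ => hZ.1
  refine ⟨⟨(⋃ Z ∈ S, Z)ᶜ, (hS.isClosed_biUnion fun Z hZ =>
    isClosed_of_mem_irreducibleComponents Z hZ.1).isOpen_compl⟩, fun h => ?_, fun x hx m hm hmx => ?_⟩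
  · obtain ⟨Z, hZ, hξZ⟩ := Set.mem_iUnion₂.1 h
    exact hZ.2 hξZ
  · let Z := irreducibleComponent m
    have hZ : Z ∈ irreducibleComponents (X : Type u) := irreducibleComponent_mem_irreducibleComponents m
    by_cases hξZ : ξ ∈ Z
    · rw [← component_eq_closure hZ] at hξZ
      have h1 := hξ _ (specializes_iff_mem_closure.2 hξZ)
      have h2 : m ∈ closure {hZ.1.genericPoint} := (component_eq_closure hZ).symm ▸ mem_irreducibleComponent
      exact ((hm _ (specializes_iff_mem_closure.2 h2)).symm).trans h1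
    · exact absurd (Set.mem_iUnion₂.2 ⟨Z, ⟨hZ, hξZ⟩,
        (isClosed_of_mem_irreducibleComponents Z hZ).closure_subset
          (closure_mono (Set.singleton_subset_iff.2 mem_irreducibleComponent) hmx.mem_closure)⟩) hx

section Main

variable (q : Y ⟶ Spec (CommRingCat.of k)) [LocallyOfFiniteType q] [QuasiCompact q]
  (f : X ⟶ Y) [LocallyOfFiniteType f] [QuasiCompact f]

include q f in
theorem noetherian : NoetherianSpace X ∧ NoetherianSpace Y := by
  have : IsLocallyNoetherian X := LocallyOfFiniteType.isLocallyNoetherian (f ≫ q)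
  have : IsLocallyNoetherian Y := LocallyOfFiniteType.isLocallyNoetherian q
  have : CompactSpace X := QuasiCompact.compactSpace_of_compactSpace (f ≫ q)
  have : CompactSpace Y := QuasiCompact.compactSpace_of_compactSpace q
  have : IsNoetherian X := {}
  have : IsNoetherian Y := {}
  exact ⟨inferInstance, inferInstance⟩

omit [LocallyOfFiniteType f] [QuasiCompact f] in
theorem fibre_data {y : Y} (hy : IsClosed ({y} : Set Y)) (h : IsIrreducible (f.base ⁻¹' {y})) :
    ∃ z : X, f z = y ∧ (∀ x, f x = y → z ⤳ x) ∧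
      topologicalKrullDim (f.base ⁻¹' {y}) = (Order.height z : WithBot ℕ∞) := by
  have hc : IsClosed (f.base ⁻¹' {y}) := hy.preimage f.continuous
  have e := h.closure_genericPoint hc
  refine ⟨h.genericPoint, ?_, fun x hx => ?_, ?_⟩
  · have : h.genericPoint ∈ closure {h.genericPoint} := subset_closure rfl
    rw [e] at this; exact this
  · have : x ∈ f.base ⁻¹' {y} := hx
    rw [← e] at this; exact specializes_iff_mem_closure.2 this
  · rw [← topologicalKrullDim_closure, e]

include q in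
/-- At most one dominant component when general closed fibres are irreducible. -/
theorem eq_of_dominant [IrreducibleSpace Y] (V : Y.Opens) (hV : (V : Set Y).Nonempty)
    (hirr : ∀ y ∈ V, IsClosed ({y} : Set Y) → IsIrreducible (f.base ⁻¹' {y}))
    {ξ₁ ξ₂ : X} (h₁ : ∀ y : X, y ⤳ ξ₁ → y = ξ₁) (h₂ : ∀ y : X, y ⤳ ξ₂ → y = ξ₂)
    (e₁ : f ξ₁ = genericPoint Y) (e₂ : f ξ₂ = genericPoint Y) : ξ₁ = ξ₂ := by
  obtain ⟨hX, hY⟩ := noetherian q f
  have : IsLocallyNoetherian Y := LocallyOfFiniteType.isLocallyNoetherian q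
  obtain ⟨U₁, hU₁, hm₁⟩ := exists_opens_unique_max h₁
  obtain ⟨U₂, hU₂, hm₂⟩ := exists_opens_unique_max h₂
  have key : ∀ U : X.Opens, (∃ ξ ∈ U, f ξ = genericPoint Y) →
      ∃ W : Set Y, IsOpen W ∧ W.Nonempty ∧ W ⊆ f '' (U : Set X) := by
    rintro U ⟨ξ, hξ, e⟩
    have hc := f.isConstructible_image (s := (U : Set X)) (ConstrSets.isConstructible_of_isOpen U.isOpen)
    obtain ⟨W, hW, hWne, hWsub⟩ := ConstrSets.exists_open_of_dense' hc
      (IrreducibleSpace.isIrreducible_univ Y) (by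
        rw [Set.inter_univ, ← genericPoint_closure]
        exact closure_mono (Set.singleton_subset_iff.2 ⟨ξ, hξ, e⟩))
    rw [Set.inter_univ] at hWne hWsub
    exact ⟨W, hW, hWne, hWsub⟩
  obtain ⟨W₁, hW₁, hn₁, hs₁⟩ := key U₁ ⟨ξ₁, hU₁, e₁⟩
  obtain ⟨W₂, hW₂, hn₂, hs₂⟩ := key U₂ ⟨ξ₂, hU₂, e₂⟩
  have hne : ((W₁ ∩ W₂) ∩ (V : Set Y)).Nonempty :=
    nonempty_preirreducible_inter (hW₁.inter hW₂) V.isOpen (nonempty_preirreducible_inter hW₁ hW₂ hn₁ hn₂) hV
  obtain ⟨y, ⟨⟨hy₁, hy₂⟩, hyV⟩, hy⟩ := exists_closedPoint_mem q ((hW₁.inter hW₂).inter V.isOpen) hne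
  obtain ⟨x₁, hx₁, rfl⟩ := hs₁ hy₁
  obtain ⟨x₂, hx₂, e⟩ := hs₂ hy₂
  obtain ⟨z, -, hz, -⟩ := fibre_data f hy (hirr _ hyV hy)
  obtain ⟨m, hmz, hm⟩ := FlatMorLib.exists_maximal_generization z
  rw [← hm₁ x₁ hx₁ m hm (hmz.trans (hz x₁ rfl)), hm₂ x₂ hx₂ m hm (hmz.trans (hz x₂ e))]

variable (d : ℕ) (hirr : ∀ y : Y, IsClosed ({y} : Set Y) → IsIrreducible (f.base ⁻¹' {y}))
  (hdim : ∀ y : Y, IsClosed ({y} : Set Y) → topologicalKrullDim (f.base ⁻¹' {y}) = d)

omit [LocallyOfFiniteType f] [QuasiCompact f] in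
include hirr hdim in
theorem fibre_data' {y : Y} (hy : IsClosed ({y} : Set Y)) :
    ∃ z : X, f z = y ∧ (∀ x, f x = y → z ⤳ x) ∧ Order.height z = d := by
  obtain ⟨z, h1, h2, h3⟩ := fibre_data f hy (hirr y hy)
  rw [hdim y hy] at h3
  exact ⟨z, h1, h2, WithBot.coe_inj.1 h3.symm⟩

include q hirr hdim in
theorem height_component {ξ : X} (hξ : ∀ y : X, y ⤳ ξ → y = ξ) :
    Order.height ξ = d + Order.height (f ξ) := by
  obtain ⟨hX, -⟩ := noetherian q f
  obtain ⟨U, hξU, hU⟩ := exists_opens_unique_max hξ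
  obtain ⟨V, hV, hle⟩ := exists_opens_height_le q f ξ
  obtain ⟨x, ⟨hxU, hxV⟩, hx⟩ := exists_closedPoint_mem (f ≫ q) (U ⊓ f ⁻¹ᵁ V : X.Opens).isOpen
    ⟨ξ, hξU, hV⟩
  have hy := isClosed_image_closedPoint q f hx
  have hy0 := height_eq_zero_of_isClosed hy
  obtain ⟨z, hfz, hz, hzd⟩ := fibre_data' f d hirr hdim hy
  obtain ⟨m, hmx, hm⟩ := FlatMorLib.exists_maximal_generization x
  obtain ⟨m', hm'z, hm'⟩ := FlatMorLib.exists_maximal_generization z
  have hξz : ξ ⤳ z := (hU x hxU m' hm' (hm'z.trans (hz x rfl))) ▸ hm'z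
  have hξx : ξ ⤳ x := hξz.trans (hz x rfl)
  have up := hle z hξz (hfz.symm ▸ hxV)
  rw [hfz, hy0, add_zero, hzd] at up
  obtain ⟨x', -, -, hfx', low⟩ := exists_generization_height_ge q f hξx
  rw [hy0, add_zero] at low
  exact le_antisymm (low.trans (add_le_add ((Order.height_mono (show x' ≤ z from hz x' hfx')).trans hzd.le) le_rfl)) up

include q hirr hdim in
/-- a component is made up of whole fibres -/
theorem mem_closure_of_fibre {ξ : X} (hξ : ∀ y : X, y ⤳ ξ → y = ξ) {x w : X} (hx : ξ ⤳ x)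
    (hy : IsClosed ({f x} : Set Y)) (hw : f w = f x) : ξ ⤳ w := by
  obtain ⟨z, hfz, hz, hzd⟩ := fibre_data' f d hirr hdim hy
  obtain ⟨x', hξx', -, hfx', low⟩ := exists_generization_height_ge q f hx
  rw [height_eq_zero_of_isClosed hy, add_zero, height_component q f d hirr hdim hξ] at low
  obtain ⟨b, -, hb⟩ := exists_height_eq q (f ξ)
  obtain ⟨a, -, ha⟩ := exists_height_eq (f ≫ q) x'
  rw [hb, ha] at low
  have hda : d ≤ a := by norm_cast at low; omega
  have hle : x' ≤ z := hz x' hfx'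
  have : z ≤ x' := by
    by_contra hn
    have := Order.height_add_one_le (lt_of_le_not_ge hle hn)
    rw [ha, hzd] at this
    norm_cast at this
    omega
  exact (hξx'.trans (show x' ⤳ z from this)).trans (hz w hw)

omit [QuasiCompact q] [LocallyOfFiniteType f] in
include q hirr in
theorem exists_dominant_component [IrreducibleSpace Y] :
    ∃ ξ : X, (∀ y : X, y ⤳ ξ → y = ξ) ∧ f ξ = genericPoint Y := by
  have hd : DenseRange f.base := by
    have := LocallyOfFiniteType.jacobsonSpace q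
    rw [DenseRange, dense_iff_closure_eq]
    refine Set.eq_univ_of_univ_subset (le_trans (le_of_eq ?_) (closure_mono (s := closedPoints Y) fun y hy => ?_))
    · rw [← JacobsonSpace.closure_inter_closedPoints_eq_closure (S := (Set.univ : Set Y))
        isOpen_univ.isLocallyClosed |>.trans closure_univ, Set.univ_inter]
    · obtain ⟨x, hx⟩ := (hirr y hy).nonempty
      exact ⟨x, hx⟩
  obtain ⟨x, hx⟩ := FpqcDescent.exists_specializes_of_mem_closure_range f (hd (genericPoint Y))
  obtain ⟨m, hmx, hm⟩ := FlatMorLib.exists_maximal_generization x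
  exact ⟨m, hm, (((hmx.map f.continuous).trans hx).antisymm (genericPoint_specializes _)).eq⟩

end Main

theorem irreducibleSpace_of_forall_specializes {ξ : X} (h : ∀ x : X, ξ ⤳ x) : IrreducibleSpace X := by
  rw [irreducibleSpace_def]
  have : (Set.univ : Set X) = closure {ξ} := (Set.eq_univ_of_forall fun x => (h x).mem_closure).symm
  show IsIrreducible (Set.univ : Set X)
  rw [this]
  exact isIrreducible_singleton.closure

theorem dim_eq_height_of_forall_specializes {ξ : X} (h : ∀ x : X, ξ ⤳ x) :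
    topologicalKrullDim X = (Order.height ξ : WithBot ℕ∞) := by
  rw [topologicalKrullDim_eq_iSup_height]
  exact le_antisymm (iSup_le fun x => WithBot.coe_le_coe.2 (Order.height_mono (h x)))
    (le_iSup (fun x : X => (Order.height x : WithBot ℕ∞)) ξ)

end Groth.Agent.DimTheory
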