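import Groth.Agent.DimTheory.Points
import Groth.Agent.DimTheory.Scheme
import Mathlib.AlgebraicGeometry.Morphisms.ClosedImmersion
import Mathlib.AlgebraicGeometry.Morphisms.Immersion

/-!
# Dimension of locally closed subsets through heights in the ambient scheme
-/

set_option autoImplicit false

universe u

open CategoryTheory AlgebraicGeometry Order TopologicalSpace Topology

namespace Groth.Agent.DimTheory

variable {k : Type u} [Field k] {X Y : Scheme.{u}}

theorem height_immersion (f : X ⟶ Spec (CommRingCat.of k)) [LocallyOfFiniteType f] (j : Y ⟶ X)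
    [IsImmersion j] (y : Y) : Order.height (j y) = Order.height y :=
  le_antisymm (height_map_le f j y) (Order.height_le_height_apply_of_strictMono (fun z : Y => j z)
    (fun a b h => by
      rw [lt_iff_le_not_ge] at h ⊢
      exact ⟨j.isEmbedding.isInducing.specializes_iff.2 h.1,
        fun h' => h.2 (j.isEmbedding.isInducing.specializes_iff.1 h')⟩) y)

theorem exists_immersion_range {S : Set X} (hS : IsLocallyClosed S) :
    ∃ (Y : Scheme.{u}) (j : Y ⟶ X), IsImmersion j ∧ Set.range j = S := by
  obtain ⟨O, Z, hO, hZ, rfl⟩ := hS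
  let U : X.Opens := ⟨O, hO⟩
  let I := Scheme.IdealSheafData.vanishingIdeal
    (⟨U.ι ⁻¹' Z, hZ.preimage U.ι.continuous⟩ : Closeds U.toScheme)
  refine ⟨I.subscheme, I.subschemeι ≫ U.ι, inferInstance, ?_⟩
  rw [Scheme.Hom.comp_base, TopCat.coe_comp, Set.range_comp, Scheme.IdealSheafData.range_subschemeι,
    Scheme.IdealSheafData.coe_support_vanishingIdeal]
  show U.ι '' (U.ι ⁻¹' Z) = O ∩ Z
  rw [Set.image_preimage_eq_inter_range, U.range_ι, Set.inter_comm]
  rfl

/-- dimension of a locally closed subset -/
theorem topologicalKrullDim_locallyClosed (f : X ⟶ Spec (CommRingCat.of k)) [LocallyOfFiniteType f]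
    {S : Set X} (hS : IsLocallyClosed S) :
    topologicalKrullDim S = ⨆ z : S, (Order.height z.1 : WithBot ℕ∞) := by
  obtain ⟨Y, j, hj, rfl⟩ := exists_immersion_range hS
  rw [← (j.isEmbedding.toHomeomorph.isHomeomorph.topologicalKrullDim_eq _)]
  rw [topologicalKrullDim_eq_iSup_height]
  refine le_antisymm (iSup_le fun y => ?_) (iSup_le fun z => ?_)
  · rw [← height_immersion f j y]
    exact le_iSup (fun z : Set.range j => (Order.height z.1 : WithBot ℕ∞)) ⟨j y, y, rfl⟩
  · obtain ⟨_, y, rfl⟩ := z
    rw [height_immersion f j y]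
    exact le_iSup (fun y : Y => (Order.height y : WithBot ℕ∞)) y

/-- heights are bounded on a Noetherian scheme of finite type over a field -/
theorem exists_height_le (f : X ⟶ Spec (CommRingCat.of k)) [LocallyOfFiniteType f] [QuasiCompact f] :
    ∃ N : ℕ, ∀ x : X, Order.height x ≤ N := by
  classical
  have : IsLocallyNoetherian X := LocallyOfFiniteType.isLocallyNoetherian f
  have : CompactSpace X := QuasiCompact.compactSpace_of_compactSpace f
  have : IsNoetherian X := {}
  have hfin := NoetherianSpace.finite_irreducibleComponents (α := X)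
  have hg : ∀ Z ∈ irreducibleComponents X, ∃ n : ℕ, ∀ x ∈ Z, Order.height x ≤ n := by
    intro Z hZ
    obtain ⟨n, -, hn⟩ := exists_height_eq f hZ.1.genericPoint
    refine ⟨n, fun x hx => hn ▸ Order.height_mono ?_⟩
    exact (hZ.1.isGenericPoint_genericPoint (isClosed_of_mem_irreducibleComponents Z hZ)).specializes hx
  choose! n hn using hg
  refine ⟨hfin.toFinset.sup n, fun x => ?_⟩
  have hx := irreducibleComponent_mem_irreducibleComponents x
  exact (hn _ hx x mem_irreducibleComponent).trans (Nat.cast_le.2 (Finset.le_sup (hfin.mem_toFinset.2 hx)))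

end Groth.Agent.DimTheory
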