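import Mathlib

/-!
# Zero dimensional schemes of finite type over a field
-/

set_option autoImplicit false

universe u

open CategoryTheory AlgebraicGeometry TopologicalSpace Opposite

namespace Groth.Agent.DimTheory.ZeroDim

variable {k : Type u} [Field k] {X : Scheme.{u}} (f : X ⟶ Spec (CommRingCat.of k))

instance isLocallyArtinian_Spec_field (k : Type u) [Field k] :
    IsLocallyArtinian (Spec (CommRingCat.of k)) :=
  Scheme.isLocallyArtinianScheme_Spec.2 (inferInstanceAs (IsArtinianRing k))

theorem finite_of_dim_le_zero [LocallyOfFiniteType f] [QuasiCompact f]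
    (h : topologicalKrullDim X ≤ 0) : Finite X := by
  have : IsLocallyNoetherian X := LocallyOfFiniteType.isLocallyNoetherian f
  have := IsLocallyArtinian.of_topologicalKrullDim_le_zero h
  have : CompactSpace X := QuasiCompact.compactSpace_of_compactSpace f
  exact finite_of_compact_of_discrete

theorem isFinite_of_finite [LocallyOfFiniteType f] [QuasiCompact f] [Finite X] : IsFinite f := by
  have : LocallyQuasiFinite f := .of_finite_preimage_singleton f fun _ => Set.toFinite _
  exact .of_locallyQuasiFinite f

theorem discreteTopology_of_isFinite [IsFinite f] : DiscreteTopology X := by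
  have : IsLocallyArtinian X := .of_locallyQuasiFinite f
  exact IsLocallyArtinian.discreteTopology

theorem germ_top_bijective [DiscreteTopology X] :
    Function.Bijective (fun s : Γ(X, ⊤) => fun x : X => X.presheaf.germ ⊤ x trivial s) := by
  refine ⟨fun s t h => ?_, fun t => ?_⟩
  · exact TopCat.Presheaf.section_ext X.sheaf ⊤ s t fun x hx => congrFun h x
  · let U : X → X.Opens := fun x => ⟨{x}, isOpen_discrete _⟩
    have hmem : ∀ x, x ∈ U x := fun x => rfl
    have hsec : ∀ x : X, ∃ s : Γ(X, U x), X.presheaf.germ (U x) x (hmem x) s = t x := fun x => by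
      obtain ⟨V, hxV, s, hs⟩ := TopCat.Presheaf.exists_germ_eq X.presheaf (t x)
      have hle : U x ≤ V := by rintro y (rfl : y = x); exact hxV
      exact ⟨X.presheaf.map (homOfLE hle).op s,
        (X.presheaf.germ_res_apply (homOfLE hle) x (hmem x) s).trans hs⟩
    choose s hs using hsec
    have hcompat : TopCat.Presheaf.IsCompatible X.sheaf.1 U s := by
      intro x y
      by_cases hxy : x = y
      · subst hxy; rfl
      · have hb : U x ⊓ U y ≤ ⊥ := fun z hz => hxy (hz.1.symm.trans hz.2)
        refine TopCat.Presheaf.section_ext X.sheaf (U x ⊓ U y) _ _ fun z hz => ?_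
        exact absurd (hb hz) (Set.notMem_empty z)
    obtain ⟨g, hg, -⟩ := X.sheaf.existsUnique_gluing' U ⊤ (fun x => homOfLE le_top)
      (fun x _ => Opens.mem_iSup.2 ⟨x, hmem x⟩) s hcompat
    refine ⟨g, funext fun x => ?_⟩
    rw [← hs x, ← hg x]
    exact (X.presheaf.germ_res_apply (homOfLE le_top) x (hmem x) g).symm

end Groth.Agent.DimTheory.ZeroDim
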