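import Mathlib

/-!
# Transcendence degree of residue fields near the generic point (algebra)
-/

set_option autoImplicit false

universe u

namespace Groth.Agent.DimTheory

/-- an algebraically spanning set bounds the transcendence degree -/
theorem trdeg_le_mk_of_isAlgebraic (K M : Type u) [Field K] [Field M] [Algebra K M] (s : Set M)
    (h : Algebra.IsAlgebraic (Algebra.adjoin K s) M) :
    ∃ B : Set M, B ⊆ s ∧ Algebra.trdeg K M = Cardinal.mk B ∧
      Algebra.IsAlgebraic (Algebra.adjoin K B) M := by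
  have : FaithfulSMul K M := (faithfulSMul_iff_algebraMap_injective _ _).2 (algebraMap K M).injective
  obtain ⟨B, hB, hBs⟩ := (AlgebraicIndependent.matroid_spanning_iff.2 h).exists_isBase_subset
  have hB' := AlgebraicIndependent.matroid_isBase_iff.1 hB
  exact ⟨B, hBs, hB'.cardinalMk_eq_trdeg.symm, by
    have h := hB'.isAlgebraic
    rwa [Subtype.range_coe] at h⟩

theorem isAlgebraic_adjoin_of_gens {K S M : Type u} [Field K] [Field M] [Algebra K M] [CommRing S]
    {R : Type u} [CommRing R] [Algebra R S] (G : Set S) (hG : Algebra.adjoin R G = ⊤) (ψ : S →+* M)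
    (hR : ∀ r : R, ∃ a : K, ψ (algebraMap R S r) = algebraMap K M a)
    (gen : ∀ z : M, ∃ a b, z = ψ a / ψ b) (T : Set M)
    (hT : ∀ g ∈ G, IsAlgebraic (Algebra.adjoin K T) (ψ g)) :
    Algebra.IsAlgebraic (Algebra.adjoin K T) M := by
  let C := Subalgebra.algebraicClosure (Algebra.adjoin K T) M
  have hS : ∀ a : S, ψ a ∈ C := by
    intro a
    have ha : a ∈ Algebra.adjoin R G := hG ▸ Algebra.mem_top
    induction ha using Algebra.adjoin_induction with
    | mem x hx => exact hT x hx
    | algebraMap r =>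
      obtain ⟨b, hb⟩ := hR r
      rw [hb]
      exact isAlgebraic_algebraMap (⟨_, Subalgebra.algebraMap_mem _ b⟩ : Algebra.adjoin K T)
    | add x y _ _ hx hy => rw [map_add]; exact C.add_mem hx hy
    | mul x y _ _ hx hy => rw [map_mul]; exact C.mul_mem hx hy
  refine ⟨fun z => ?_⟩
  obtain ⟨a, b, rfl⟩ := gen z
  rw [div_eq_mul_inv]
  exact C.mul_mem (hS a) (show IsAlgebraic _ _ from (hS b).inv)

/-- Clearing denominators. -/
theorem exists_clear {R S K L : Type u} [CommRing R] [CommRing S] [Algebra R S] [Field K] [Field L]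
    [Algebra K L] (ι : R →+* K) (hι : ∀ z : K, ∃ a b, z = ι a / ι b)
    (ψ : S →+* L) (hc : ∀ r, ψ (algebraMap R S r) = algebraMap K L (ι r)) (T : Set S)
    (q : Polynomial (Algebra.adjoin K (ψ '' T))) :
    ∃ (r : R) (P : Polynomial S), ι r ≠ 0 ∧ (∀ i, P.coeff i ∈ Algebra.adjoin R T) ∧
      P.map ψ = Polynomial.C (algebraMap K L (ι r)) *
        q.map (algebraMap (Algebra.adjoin K (ψ '' T)) L) := by
  have key : ∀ e ∈ Algebra.adjoin K (ψ '' T), ∃ (r : R) (s : S), ι r ≠ 0 ∧
      s ∈ Algebra.adjoin R T ∧ ψ s = algebraMap K L (ι r) * e := by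
    intro e he
    induction he using Algebra.adjoin_induction with
    | mem x hx =>
      obtain ⟨t, ht, rfl⟩ := hx
      exact ⟨1, t, by simp, Algebra.subset_adjoin ht, by simp⟩
    | algebraMap z =>
      obtain ⟨a, b, rfl⟩ := hι z
      rcases eq_or_ne (ι b) 0 with h | h
      · exact ⟨1, 0, by simp, Subalgebra.zero_mem _, by simp [h]⟩
      · exact ⟨b, algebraMap R S a, h, Subalgebra.algebraMap_mem _ _, by
          rw [hc, ← map_mul, mul_div_cancel₀ _ h]⟩
    | add x y _ _ hx hy =>
      obtain ⟨r, s, hr, hs, e1⟩ := hx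
      obtain ⟨r', s', hr', hs', e2⟩ := hy
      exact ⟨r * r', algebraMap R S r' * s + algebraMap R S r * s', by simp [hr, hr'],
        add_mem (mul_mem (Subalgebra.algebraMap_mem _ _) hs) (mul_mem (Subalgebra.algebraMap_mem _ _) hs'),
        by rw [map_add, map_mul, map_mul, e1, e2, hc, hc, map_mul, map_mul]; ring⟩
    | mul x y _ _ hx hy =>
      obtain ⟨r, s, hr, hs, e1⟩ := hx
      obtain ⟨r', s', hr', hs', e2⟩ := hy
      exact ⟨r * r', s * s', by simp [hr, hr'], mul_mem hs hs',
        by rw [map_mul, e1, e2, map_mul, map_mul]; ring⟩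
  induction q using Polynomial.induction_on' with
  | add p q hp hq =>
    obtain ⟨r, P, hr, hP, e1⟩ := hp
    obtain ⟨r', P', hr', hP', e2⟩ := hq
    refine ⟨r * r', Polynomial.C (algebraMap R S r') * P + Polynomial.C (algebraMap R S r) * P',
      by simp [hr, hr'], fun i => ?_, ?_⟩
    · rw [Polynomial.coeff_add, Polynomial.coeff_C_mul, Polynomial.coeff_C_mul]
      exact add_mem (mul_mem (Subalgebra.algebraMap_mem _ _) (hP i))
        (mul_mem (Subalgebra.algebraMap_mem _ _) (hP' i))
    · simp only [Polynomial.map_add, Polynomial.map_mul, Polynomial.map_C, e1, e2, hc, map_mul]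
      ring
  | monomial n e =>
    obtain ⟨r, s, hr, hs, he⟩ := key e.1 e.2
    refine ⟨r, Polynomial.monomial n s, hr, fun i => ?_, ?_⟩
    · rw [Polynomial.coeff_monomial]
      split_ifs
      · exact hs
      · exact Subalgebra.zero_mem _
    · rw [Polynomial.map_monomial, Polynomial.map_monomial, Polynomial.C_mul_monomial, he]
      rfl

/-- Near the generic point the relative transcendence degree does not exceed the generic one. -/
theorem exists_trdeg_bound {R S K L : Type u} [CommRing R] [CommRing S] [Algebra R S]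
    [Algebra.FiniteType R S] [Field K] [Field L] [Algebra K L] (ι : R →+* K)
    (hι : ∀ z : K, ∃ a b, z = ι a / ι b) (ψ : S →+* L)
    (hc : ∀ r, ψ (algebraMap R S r) = algebraMap K L (ι r)) (gen : ∀ z : L, ∃ a b, z = ψ a / ψ b) :
    ∃ c : S, ψ c ≠ 0 ∧ ∀ (K' M : Type u) [Field K'] [Field M] [Algebra K' M] (ψ' : S →+* M),
      (∀ r : R, ∃ a : K', ψ' (algebraMap R S r) = algebraMap K' M a) →
      (∀ z : M, ∃ a b, z = ψ' a / ψ' b) → (∀ s, ψ s = 0 → ψ' s = 0) → ψ' c ≠ 0 →
      Algebra.trdeg K' M ≤ Algebra.trdeg K L := by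
  classical
  obtain ⟨G, hG⟩ := (‹Algebra.FiniteType R S›).out
  have halg : Algebra.IsAlgebraic (Algebra.adjoin K (ψ '' (G : Set S))) L :=
    isAlgebraic_adjoin_of_gens (G : Set S) hG ψ (fun r => ⟨_, hc r⟩) gen _
      fun g hg => isAlgebraic_algebraMap
        (⟨ψ g, Algebra.subset_adjoin ⟨g, hg, rfl⟩⟩ : Algebra.adjoin K (ψ '' (G : Set S)))
  obtain ⟨B, hB, hcard, hBalg⟩ := trdeg_le_mk_of_isAlgebraic K L _ halg
  choose pre hpre hψpre using hB
  let T : Set S := Set.range fun b : B => pre b.2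
  have hψT : ψ '' T = B := by
    ext z
    constructor
    · rintro ⟨_, ⟨b, rfl⟩, rfl⟩; simp [hψpre]
    · exact fun hz => ⟨_, ⟨⟨z, hz⟩, rfl⟩, hψpre hz⟩
  have hp : ∀ g : S, ∃ (P : Polynomial S) (n : ℕ), (∀ i, P.coeff i ∈ Algebra.adjoin R T) ∧
      ψ (P.coeff n) ≠ 0 ∧ ψ (P.eval g) = 0 := by
    intro g
    have hg : IsAlgebraic (Algebra.adjoin K (ψ '' T)) (ψ g) := by
      rw [hψT]; exact hBalg.isAlgebraic _
    obtain ⟨q, hq0, hq⟩ := hg
    obtain ⟨r, P, hr, hP, e⟩ := exists_clear ι hι ψ hc T q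
    refine ⟨P, q.natDegree, hP, ?_, ?_⟩
    · rw [← Polynomial.coeff_map, e, Polynomial.coeff_C_mul, Polynomial.coeff_map]
      refine mul_ne_zero ((map_ne_zero _).2 hr) ?_
      rw [Ne, ← map_zero (algebraMap (Algebra.adjoin K (ψ '' T)) L)]
      exact fun h => Polynomial.leadingCoeff_ne_zero.2 hq0 (Subtype.val_injective h)
    · rw [← Polynomial.eval_map_apply, e, Polynomial.eval_mul, Polynomial.eval_map]
      rw [Polynomial.aeval_def] at hq
      rw [hq, mul_zero]
  choose P n hP hn hroot using hp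
  refine ⟨∏ g ∈ G, (P g).coeff (n g), ?_, ?_⟩
  · rw [map_prod]; exact Finset.prod_ne_zero_iff.2 fun g _ => hn g
  intro K' M _ _ _ ψ' hR' gen' hker hc'
  have hTalg : Algebra.IsAlgebraic (Algebra.adjoin K' (ψ' '' T)) M := by
    refine isAlgebraic_adjoin_of_gens (G : Set S) hG ψ' hR' gen' _ fun g hg => ?_
    have hmem : ∀ s ∈ Algebra.adjoin R T, ψ' s ∈ Algebra.adjoin K' (ψ' '' T) := by
      intro s hs
      induction hs using Algebra.adjoin_induction with
      | mem x hx => exact Algebra.subset_adjoin ⟨x, hx, rfl⟩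
      | algebraMap r =>
        obtain ⟨a, ha⟩ := hR' r
        rw [ha]; exact Subalgebra.algebraMap_mem _ a
      | add x y _ _ hx hy => rw [map_add]; exact add_mem hx hy
      | mul x y _ _ hx hy => rw [map_mul]; exact mul_mem hx hy
    have hcoef : ↑((P g).map ψ').coeffs ⊆ (Algebra.adjoin K' (ψ' '' T)).toSubring.carrier := by
      intro a ha
      obtain ⟨i, -, rfl⟩ := Polynomial.mem_coeffs_iff.1 ha
      rw [Polynomial.coeff_map]
      exact hmem _ (hP g i)
    refine ⟨((P g).map ψ').toSubring _ hcoef, fun h0 => ?_, ?_⟩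
    · have h2 : ((((P g).map ψ').toSubring _ hcoef).coeff (n g) : M) = 0 :=
        congrArg Subtype.val ((congrArg (fun p => Polynomial.coeff p (n g)) h0).trans
          (Polynomial.coeff_zero _))
      have h1 : ψ' ((P g).coeff (n g)) = 0 := by
        rw [← Polynomial.coeff_map, ← Polynomial.coeff_toSubring _ _ hcoef]; exact h2
      rw [map_prod] at hc'
      exact Finset.prod_ne_zero_iff.1 hc' g hg h1
    · rw [Polynomial.aeval_def]
      refine Eq.trans (Polynomial.eval_map _ _).symm ?_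
      show Polynomial.eval (ψ' g) (Polynomial.map (Algebra.adjoin K' (ψ' '' T)).toSubring.subtype
        (((P g).map ψ').toSubring _ hcoef)) = 0
      rw [Polynomial.map_toSubring, Polynomial.eval_map_apply]
      exact hker _ (hroot g)
  obtain ⟨B', hB', hcard', -⟩ := trdeg_le_mk_of_isAlgebraic K' M _ hTalg
  rw [hcard', hcard]
  exact ((Cardinal.mk_le_mk_of_subset hB').trans Cardinal.mk_image_le).trans Cardinal.mk_range_le

end Groth.Agent.DimTheory
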