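import Groth.Agent.DimTheory.Fibre
import Groth.Agent.DimTheory.GenTrdeg

/-!
# Dimension of fibres near the generic point (Chevalley)
-/

set_option autoImplicit false

universe u

open CategoryTheory AlgebraicGeometry Order TopologicalSpace

namespace Groth.Agent.DimTheory

variable {k : Type u} [Field k] {X Y : Scheme.{u}}

/-- Locally at `ξ`, the relative transcendence degree of specializations is at most that of `ξ`. -/
theorem exists_opens_mapTrdeg_le (f : X ⟶ Y) [LocallyOfFiniteType f] (ξ : X) :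
    ∃ W : X.Opens, ξ ∈ W ∧ ∀ x ∈ W, ξ ⤳ x → mapTrdeg f x ≤ mapTrdeg f ξ := by
  obtain ⟨V, hV, hηV, -⟩ := Y.isBasis_affineOpens.exists_subset_of_mem_open (Set.mem_univ (f ξ)) isOpen_univ
  obtain ⟨V, hV, rfl⟩ := hV
  obtain ⟨U, hU, hξU, hUV⟩ := X.isBasis_affineOpens.exists_subset_of_mem_open
    (show ξ ∈ (f ⁻¹ᵁ V : X.Opens) from hηV) (f ⁻¹ᵁ V).isOpen
  obtain ⟨U, hU, rfl⟩ := hU
  let _ : Algebra Γ(Y, V) Γ(X, U) := (f.appLE V U hUV).hom.toAlgebra
  have : Algebra.FiniteType Γ(Y, V) Γ(X, U) := f.finiteType_appLE hV hU hUV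
  let ψ := fun (x : X) (hx : x ∈ U) => (X.presheaf.germ U x hx ≫ X.residue x).hom
  have hcomp : ∀ (x : X) (hx : x ∈ U) (r : Γ(Y, V)), ψ x hx (algebraMap Γ(Y, V) Γ(X, U) r) =
      (f.residueFieldMap x).hom ((Y.presheaf.germ V (f x) (hUV hx) ≫ Y.residue (f x)).hom r) := by
    intro x hx r
    have h1 := ConcreteCategory.congr_hom (Scheme.residue_residueFieldMap f x)
      (Y.presheaf.germ V (f x) (hUV hx) r)
    simp only [CommRingCat.comp_apply] at h1
    refine Eq.trans ?_ h1.symm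
    show X.residue x (X.presheaf.germ U x hx (f.appLE V U hUV r)) = _
    congr 1
    rw [f.germ_stalkMap_apply V x (hUV hx) r, Scheme.Hom.appLE, CommRingCat.comp_apply,
      X.presheaf.germ_res_apply]
  let _ : Algebra (Y.residueField (f ξ)) (X.residueField ξ) := (f.residueFieldMap ξ).hom.toAlgebra
  obtain ⟨c, hc0, hc⟩ := exists_trdeg_bound
    ((Y.presheaf.germ V (f ξ) (hUV hξU) ≫ Y.residue (f ξ)).hom) (exists_eq_div hV (hUV hξU))
    (ψ ξ hξU) (hcomp ξ hξU) (exists_eq_div hU hξU)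
  refine ⟨U ⊓ X.basicOpen c, ⟨hξU, (X.evaluation_ne_zero_iff_mem_basicOpen ξ hξU c).1 hc0⟩,
    fun x hx hξx => ?_⟩
  let _ : Algebra (Y.residueField (f x)) (X.residueField x) := (f.residueFieldMap x).hom.toAlgebra
  refine hc _ _ (ψ x hx.1) (fun r => ⟨_, hcomp x hx.1 r⟩) (exists_eq_div hU hx.1) (fun s hs => ?_)
    ((X.evaluation_ne_zero_iff_mem_basicOpen x hx.1 c).2 hx.2)
  by_contra hne
  exact (X.evaluation_ne_zero_iff_mem_basicOpen ξ hξU s).2
    (hξx.mem_open (X.basicOpen s).isOpen ((X.evaluation_ne_zero_iff_mem_basicOpen x hx.1 s).1 hne)) hs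

theorem height_eq_ringKrullDim (q : X ⟶ Spec (CommRingCat.of k)) [LocallyOfFiniteType q]
    {U : X.Opens} (hU : IsAffineOpen U) {x : X} (hx : x ∈ U) :
    ringKrullDim (Γ(X, U) ⧸ (hU.primeIdealOf ⟨x, hx⟩).asIdeal) = (Order.height x : WithBot ℕ∞) := by
  obtain ⟨n, hn, hd⟩ := exists_resTrdeg_eq q hU hx
  obtain ⟨m, hm, hm'⟩ := exists_height_eq q x
  rw [hd, hm', Nat.cast_injective (R := Cardinal.{u}) (hn.symm.trans hm)]
  rfl

variable (q : Y ⟶ Spec (CommRingCat.of k)) [LocallyOfFiniteType q] (f : X ⟶ Y) [LocallyOfFiniteType f]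

include q in
theorem height_le_of_mapTrdeg_le {ξ x : X} (h : mapTrdeg f x ≤ mapTrdeg f ξ) :
    Order.height x + Order.height (f ξ) ≤ Order.height ξ + Order.height (f x) := by
  obtain ⟨a, ha, ha'⟩ := exists_height_eq (f ≫ q) x
  obtain ⟨b, hb, hb'⟩ := exists_height_eq q (f x)
  obtain ⟨a₁, ha₁, ha₁'⟩ := exists_height_eq (f ≫ q) ξ
  obtain ⟨b₁, hb₁, hb₁'⟩ := exists_height_eq q (f ξ)
  rw [ha', hb', ha₁', hb₁']
  rw [resTrdeg_comp, hb] at ha
  rw [resTrdeg_comp, hb₁] at ha₁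
  have h' : ((a + b₁ : ℕ) : Cardinal.{u}) ≤ ((a₁ + b : ℕ) : Cardinal.{u}) := by
    push_cast
    rw [← ha, ← ha₁]
    calc (b : Cardinal.{u}) + mapTrdeg f x + b₁ ≤ (b : Cardinal.{u}) + mapTrdeg f ξ + b₁ :=
          add_le_add (add_le_add le_rfl h) le_rfl
      _ = _ := by abel
  exact_mod_cast h'

include q in
/-- Over an open neighbourhood of `f ξ` fibres of `closure ξ` have at most the generic dimension. -/
theorem exists_opens_height_le [NoetherianSpace X] (ξ : X) :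
    ∃ V : Y.Opens, f ξ ∈ V ∧ ∀ x : X, ξ ⤳ x → f x ∈ V →
      Order.height x + Order.height (f ξ) ≤ Order.height ξ + Order.height (f x) := by
  suffices H : ∀ (n : ℕ) (ξ : X), Order.height ξ < n → ∃ V : Y.Opens, f ξ ∈ V ∧ ∀ x : X, ξ ⤳ x →
      f x ∈ V → Order.height x + Order.height (f ξ) ≤ Order.height ξ + Order.height (f x) by
    obtain ⟨n, -, hn⟩ := exists_height_eq (f ≫ q) ξ
    exact H (n + 1) ξ (by rw [hn]; exact_mod_cast Nat.lt_succ_self n)
  intro n
  induction n with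
  | zero => intro ξ h; simp at h
  | succ n ih =>
    intro ξ hn
    obtain ⟨W, hξW, hW⟩ := exists_opens_mapTrdeg_le f ξ
    obtain ⟨S, hSfin, hSc, hSi, hSU⟩ := NoetherianSpace.exists_finite_set_isClosed_irreducible
      (s := closure {ξ} \ (W : Set X)) (isClosed_closure.sdiff W.isOpen)
    have hS : ∀ s ∈ S, ∃ (ξ' : X) (V : Y.Opens), IsGenericPoint ξ' s ∧ f ξ ∈ V ∧ ∀ x : X, ξ' ⤳ x →
        f x ∈ V → Order.height x + Order.height (f ξ) ≤ Order.height ξ + Order.height (f x) := by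
      intro s hs
      let ξ' := (hSi s hs).genericPoint
      have hgen : IsGenericPoint ξ' s := (hSi s hs).closure_genericPoint (hSc s hs)
      have hmem : ξ' ∈ closure ({ξ} : Set X) \ (W : Set X) := by
        rw [hSU]; exact Set.mem_sUnion.2 ⟨s, hs, hgen.mem⟩
      have hξξ' : ξ ⤳ ξ' := specializes_iff_mem_closure.2 hmem.1
      by_cases hη : f ξ' ⤳ f ξ
      · have heq : f ξ' = f ξ := (hη.antisymm (hξξ'.map f.continuous)).eq
        have hlt : ξ' < ξ := lt_of_le_not_ge hξξ' fun h => hmem.2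
          (h.mem_open W.isOpen hξW)
        obtain ⟨V, hV, hle⟩ := ih ξ' (by
          have h1 := Order.height_add_one_le hlt
          obtain ⟨m, -, hm⟩ := exists_height_eq (f ≫ q) ξ'
          obtain ⟨m₁, -, hm₁⟩ := exists_height_eq (f ≫ q) ξ
          rw [hm, hm₁] at h1
          rw [hm₁] at hn
          rw [hm]
          norm_cast at h1 hn ⊢
          omega)
        refine ⟨ξ', V, hgen, heq ▸ hV, fun x hx hxV => ?_⟩
        have := hle x hx hxV
        rw [heq] at this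
        exact this.trans (add_le_add (Order.height_mono hξξ') le_rfl)
      · refine ⟨ξ', ⟨(closure {f ξ'})ᶜ, isClosed_closure.isOpen_compl⟩, hgen,
          fun h => hη (specializes_iff_mem_closure.2 h), fun x hx hxV => ?_⟩
        exact absurd (specializes_iff_mem_closure.1 (hx.map f.continuous)) hxV
    choose ξ' V hgen hV hle using hS
    have := hSfin.to_subtype
    refine ⟨⟨⋂ s : S, (V s.1 s.2 : Set Y), isOpen_iInter_of_finite fun s => (V s.1 s.2).isOpen⟩,
      Set.mem_iInter.2 fun s => hV s.1 s.2, fun x hx hxV => ?_⟩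
    by_cases hxW : x ∈ W
    · exact height_le_of_mapTrdeg_le q f (hW x hxW hx)
    · have : x ∈ ⋃₀ S := hSU ▸ ⟨specializes_iff_mem_closure.1 hx, hxW⟩
      obtain ⟨s, hs, hxs⟩ := this
      exact hle s hs x ((hgen s hs).specializes hxs) (Set.mem_iInter.1 hxV ⟨s, hs⟩)

include q in
/-- Every point of `closure ξ` generalizes in its fibre to a point of at least the generic relative
dimension. -/
theorem exists_generization_height_ge {ξ x : X} (hx : ξ ⤳ x) :
    ∃ x' : X, ξ ⤳ x' ∧ x' ⤳ x ∧ f x' = f x ∧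
      Order.height ξ + Order.height (f x) ≤ Order.height x' + Order.height (f ξ) := by
  obtain ⟨V, hV, hyV, -⟩ := Y.isBasis_affineOpens.exists_subset_of_mem_open (Set.mem_univ (f x)) isOpen_univ
  obtain ⟨V, hV, rfl⟩ := hV
  obtain ⟨U, hU, hxU, hUV⟩ := X.isBasis_affineOpens.exists_subset_of_mem_open
    (show x ∈ (f ⁻¹ᵁ V : X.Opens) from hyV) (f ⁻¹ᵁ V).isOpen
  obtain ⟨U, hU, rfl⟩ := hU
  have hξU : ξ ∈ U := hx.mem_open U.isOpen hxU
  let φ := (f.appLE V U hUV).hom
  let P₀ := (hU.primeIdealOf ⟨ξ, hξU⟩).asIdeal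
  let Px := (hU.primeIdealOf ⟨x, hxU⟩).asIdeal
  let p₀ := (hV.primeIdealOf ⟨f ξ, hUV hξU⟩).asIdeal
  let py := (hV.primeIdealOf ⟨f x, hyV⟩).asIdeal
  have e₀ : P₀.comap φ = p₀ :=
    congrArg PrimeSpectrum.asIdeal (IsAffineOpen.comap_primeIdealOf_appLE V hV U hU hUV hξU)
  have ey : Px.comap φ = py :=
    congrArg PrimeSpectrum.asIdeal (IsAffineOpen.comap_primeIdealOf_appLE V hV U hU hUV hxU)
  have hspec : hU.fromSpec (hU.primeIdealOf ⟨ξ, hξU⟩) ⤳ hU.fromSpec (hU.primeIdealOf ⟨x, hxU⟩) := by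
    rw [hU.fromSpec_primeIdealOf, hU.fromSpec_primeIdealOf]; exact hx
  have hP : P₀ ≤ Px := (PrimeSpectrum.le_iff_specializes _ _).2
    (hU.fromSpec.isOpenEmbedding.isInducing.specializes_iff.1 hspec)
  have hp : p₀ ≤ py := e₀ ▸ ey ▸ Ideal.comap_mono hP
  algebraize [secHom (f ≫ q) U, secHom q V]
  have : Algebra.FiniteType k Γ(X, U) := finiteType_secHom (f ≫ q) hU
  have : Algebra.FiniteType k Γ(Y, V) := finiteType_secHom q hV
  have := Algebra.FiniteType.isNoetherianRing k Γ(X, U)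
  have := Algebra.FiniteType.isNoetherianRing k Γ(Y, V)
  let S' := Γ(X, U) ⧸ P₀
  let R' := Γ(Y, V) ⧸ p₀
  let φ' : R' →+* S' := Ideal.quotientMap P₀ φ e₀.ge
  let _ : Algebra R' S' := φ'.toAlgebra
  let py' : Ideal R' := py.map (Ideal.Quotient.mk p₀)
  have : py'.IsPrime := Ideal.isPrime_map_quotientMk_of_isPrime hp
  let Px' : Ideal S' := Px.map (Ideal.Quotient.mk P₀)
  have : Px'.IsPrime := Ideal.isPrime_map_quotientMk_of_isPrime hP
  have ePx : Px'.comap (algebraMap R' S') = py' := by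
    refine Ideal.comap_injective_of_surjective (Ideal.Quotient.mk p₀) Ideal.Quotient.mk_surjective ?_
    show (Px'.comap (algebraMap R' S')).comap _ = (py.map _).comap _
    rw [Ideal.comap_comap, Ideal.comap_map_of_surjective' _ Ideal.Quotient.mk_surjective,
      Ideal.mk_ker, sup_eq_left.2 hp,
      show (algebraMap R' S').comp (Ideal.Quotient.mk p₀) = (Ideal.Quotient.mk P₀).comp φ from
        Ideal.quotientMap_comp_mk e₀.ge, ← Ideal.comap_comap]
    rw [Ideal.comap_map_of_surjective' _ Ideal.Quotient.mk_surjective, Ideal.mk_ker, sup_eq_left.2 hP]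
    exact ey
  obtain ⟨Q, hQ, hQle⟩ := Ideal.exists_minimalPrimes_le
    (I := py'.map (algebraMap R' S')) (J := Px') (Ideal.map_le_iff_le_comap.2 ePx.ge)
  have := hQ.1.1
  have hlies : Q.LiesOver py' := ⟨le_antisymm (Ideal.map_le_iff_le_comap.1 hQ.1.2)
    ((Ideal.comap_mono hQle).trans ePx.le)⟩
  have hQh : Q.height ≤ py'.height := by
    refine (Ideal.height_le_height_add_of_liesOver py' Q).trans (le_of_eq ?_)
    have hQ' : (Q.map (Ideal.Quotient.mk (py'.map (algebraMap R' S')))).IsPrime :=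
      Ideal.isPrime_map_quotientMk_of_isPrime hQ.1.2
    suffices (Q.map (Ideal.Quotient.mk (py'.map (algebraMap R' S')))).height = 0 by rw [this, add_zero]
    rw [Ideal.height_eq_zero_iff]
    refine ⟨⟨hQ', bot_le⟩, fun J hJ hJQ => ?_⟩
    have hJ1 := hJ.1
    have h2 : J.comap (Ideal.Quotient.mk _) ≤ Q := (Ideal.comap_mono hJQ).trans_eq (by
      rw [Ideal.comap_map_of_surjective' _ Ideal.Quotient.mk_surjective, Ideal.mk_ker, sup_eq_left.2 hQ.1.2])
    have h3 := hQ.2 ⟨Ideal.IsPrime.comap _, fun z hz => by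
      show Ideal.Quotient.mk _ z ∈ J
      rw [Ideal.Quotient.eq_zero_iff_mem.2 hz]
      exact J.zero_mem⟩ h2
    exact (Ideal.map_le_iff_le_comap.2 h3)
  -- the point
  let P' : PrimeSpectrum Γ(X, U) := ⟨Q.comap (Ideal.Quotient.mk P₀), Ideal.IsPrime.comap _⟩
  have hP₀P' : P₀ ≤ P'.asIdeal := fun z hz => by
    show Ideal.Quotient.mk P₀ z ∈ Q
    rw [Ideal.Quotient.eq_zero_iff_mem.2 hz]; exact Q.zero_mem
  have hP'x : P'.asIdeal ≤ Px := (Ideal.comap_mono hQle).trans_eq (by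
    rw [Ideal.comap_map_of_surjective' _ Ideal.Quotient.mk_surjective, Ideal.mk_ker, sup_eq_left.2 hP])
  let x' := hU.fromSpec P'
  have hx'U : x' ∈ U := by
    have : x' ∈ Set.range hU.fromSpec := ⟨_, rfl⟩
    rwa [hU.range_fromSpec] at this
  have eP' : hU.primeIdealOf ⟨x', hx'U⟩ = P' :=
    hU.fromSpec.isOpenEmbedding.injective (hU.fromSpec_primeIdealOf ⟨x', hx'U⟩)
  have hξx' : ξ ⤳ x' := by
    have := ((PrimeSpectrum.le_iff_specializes (hU.primeIdealOf ⟨ξ, hξU⟩) P').1 hP₀P').map hU.fromSpec.continuous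
    rwa [hU.fromSpec_primeIdealOf] at this
  have hx'x : x' ⤳ x := by
    have := ((PrimeSpectrum.le_iff_specializes P' (hU.primeIdealOf ⟨x, hxU⟩)).1 hP'x).map hU.fromSpec.continuous
    rwa [hU.fromSpec_primeIdealOf] at this
  have hcomap : P'.asIdeal.comap φ = py := by
    show (Q.comap (Ideal.Quotient.mk P₀)).comap φ = py
    rw [Ideal.comap_comap, ← Ideal.quotientMap_comp_mk e₀.ge, ← Ideal.comap_comap]
    show (Q.comap (algebraMap R' S')).comap _ = py
    rw [← Ideal.under_def, ← hlies.over, Ideal.comap_map_of_surjective' _ Ideal.Quotient.mk_surjective,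
      Ideal.mk_ker, sup_eq_left.2 hp]
  have hfx' : f x' = f x := by
    have h1 := IsAffineOpen.comap_primeIdealOf_appLE V hV U hU hUV hx'U
    rw [eP'] at h1
    have h2 : hV.primeIdealOf ⟨f x', hUV hx'U⟩ = hV.primeIdealOf ⟨f x, hyV⟩ := by
      rw [← h1]; exact PrimeSpectrum.ext hcomap
    have := congrArg hV.fromSpec h2
    rwa [hV.fromSpec_primeIdealOf, hV.fromSpec_primeIdealOf] at this
  refine ⟨x', hξx', hx'x, hfx', ?_⟩
  -- dimensions
  have d₁ : ringKrullDim S' = (Order.height ξ : WithBot ℕ∞) := height_eq_ringKrullDim (f ≫ q) hU hξU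
  have d₂ : ringKrullDim R' = (Order.height (f ξ) : WithBot ℕ∞) := height_eq_ringKrullDim q hV (hUV hξU)
  have hQeq : Q = P'.asIdeal.map (Ideal.Quotient.mk P₀) :=
    (Ideal.map_comap_of_surjective _ Ideal.Quotient.mk_surjective Q).symm
  have d₃ : ringKrullDim (S' ⧸ Q) = (Order.height x' : WithBot ℕ∞) := by
    rw [ringKrullDim_eq_of_ringEquiv ((Ideal.quotEquivOfEq hQeq).trans (DoubleQuot.quotQuotEquivQuotOfLE hP₀P')),
      ← height_eq_ringKrullDim (f ≫ q) hU hx'U, eP']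
  have d₄ : ringKrullDim (R' ⧸ py') = (Order.height (f x) : WithBot ℕ∞) := by
    rw [ringKrullDim_eq_of_ringEquiv (DoubleQuot.quotQuotEquivQuotOfLE hp),
      height_eq_ringKrullDim q hV hyV]
  have : Algebra.FiniteType k S' := inferInstance
  have : Algebra.FiniteType k R' := inferInstance
  have a₁ := height_add_ringKrullDim_quotient' k Q
  have a₂ := height_add_ringKrullDim_quotient' k py'
  rw [d₁, d₃, ← WithBot.coe_add, WithBot.coe_inj] at a₁
  rw [d₂, d₄, ← WithBot.coe_add, WithBot.coe_inj] at a₂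
  rw [← a₁, ← a₂, add_assoc, add_comm Q.height]
  exact add_le_add le_rfl (add_le_add le_rfl hQh)

end Groth.Agent.DimTheory
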